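import Groth.Agent.ResProp.EF.K104.Rep

/-!
# G5, node (B3), matrix form

A natural multiplicative family of matrices with entries in `End_B (B ⊗ M)` gives a
representation (functor of points, `Rep`) on `I → M`.
-/

set_option autoImplicit false

universe u w v

open TensorProduct

namespace Groth.Agent.ResProp.EF.K104

variable {k : Type u} [CommRing k] {A : Type u} [CommRing A] [Bialgebra k A]
variable {M : Type w} [AddCommGroup M] [Module k M] {I : Type v} [Fintype I] [DecidableEq I]

/-- the action of a matrix with entries in `End_B (B ⊗ M)` on `B ⊗ (I → M)` -/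
noncomputable def matOp (B : Type u) [CommRing B] [Algebra k B] :
    Matrix I I (Module.End B (B ⊗[k] M)) →* Module.End B (B ⊗[k] (I → M)) where
  toFun X := (TensorProduct.piRight k B B (fun _ : I => M)).symm.toLinearMap ∘ₗ
    ((endVecRingEquivMatrixEnd I B (B ⊗[k] M)).symm X) ∘ₗ
      (TensorProduct.piRight k B B (fun _ : I => M)).toLinearMap
  map_one' := by
    rw [map_one]
    ext x
    simp
  map_mul' X Y := by
    rw [map_mul]
    apply LinearMap.ext
    intro x
    simp [LinearMap.comp_apply]

theorem piRight_matOp (B : Type u) [CommRing B] [Algebra k B]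
    (X : Matrix I I (Module.End B (B ⊗[k] M))) (x : B ⊗[k] (I → M)) (i : I) :
    TensorProduct.piRight k B B (fun _ : I => M) (matOp B X x) i =
      ∑ j, X i j (TensorProduct.piRight k B B (fun _ : I => M) x j) := by
  show TensorProduct.piRight k B B (fun _ : I => M)
    ((TensorProduct.piRight k B B (fun _ : I => M)).symm _) i = _
  rw [LinearEquiv.apply_symm_apply]
  rfl

theorem piRight_rTensor {B C : Type u} [CommRing B] [Algebra k B] [CommRing C] [Algebra k C]
    (f : B →ₐ[k] C) (x : B ⊗[k] (I → M)) (i : I) :
    TensorProduct.piRight k C C (fun _ : I => M) (f.toLinearMap.rTensor (I → M) x) i =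
      f.toLinearMap.rTensor M (TensorProduct.piRight k B B (fun _ : I => M) x i) := by
  induction x with
  | zero => simp
  | add x y hx hy => simp only [map_add, Pi.add_apply, hx, hy]
  | tmul b m => simp

/-- **(B3) matrix form.** -/
noncomputable def matRep
    (S : ∀ (B : Type u) [CommRing B] [Algebra k B], (A →ₐ[k] B) →
      Matrix I I (Module.End B (B ⊗[k] M)))
    (nat : ∀ {B C : Type u} [CommRing B] [Algebra k B] [CommRing C] [Algebra k C]
      [Module.Flat k B] [Module.Flat k C] (f : B →ₐ[k] C) (g : A →ₐ[k] B) (i j : I)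
      (y : B ⊗[k] M),
      f.toLinearMap.rTensor M (S B g i j y) = S C (f.comp g) i j (f.toLinearMap.rTensor M y))
    (mul : ∀ (B : Type u) [CommRing B] [Algebra k B] [Module.Flat k B] (g h : A →ₐ[k] B),
      S B (pmul g h) = S B g * S B h)
    (one : ∀ (B : Type u) [CommRing B] [Algebra k B] [Module.Flat k B], S B (pone B) = 1) :
    Rep k A (I → M) where
  s B _ _ g := matOp B (S B g)
  nat := by
    intro B C _ _ _ _ _ _ f g x
    apply (TensorProduct.piRight k C C (fun _ : I => M)).injective
    funext i
    rw [piRight_matOp, piRight_rTensor, piRight_matOp, map_sum]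
    refine Finset.sum_congr rfl fun j _ => ?_
    rw [nat, piRight_rTensor]
  mul := by
    intro B _ _ _ g h x
    rw [mul, map_mul]
    rfl
  one := by
    intro B _ _ _ x
    rw [one, map_one]
    rfl

/-- the operators of `matRep` on pure tensors, coordinates -/
theorem matRep_s_apply
    (S : ∀ (B : Type u) [CommRing B] [Algebra k B], (A →ₐ[k] B) →
      Matrix I I (Module.End B (B ⊗[k] M))) (nat mul one)
    (B : Type u) [CommRing B] [Algebra k B] (g : A →ₐ[k] B) (b : B) (m : I → M) (i : I) :
    TensorProduct.piRight k B B (fun _ : I => M) ((matRep S nat mul one).s B g (b ⊗ₜ m)) i =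
      ∑ j, S B g i j (b ⊗ₜ m j) := by
  show TensorProduct.piRight k B B (fun _ : I => M) (matOp B (S B g) (b ⊗ₜ m)) i = _
  rw [piRight_matOp]
  rfl

end Groth.Agent.ResProp.EF.K104
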