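import Mathlib

/-!
# G5 (section 5 of departures/helper980.md, third version): the lifting of a group extension

Interface of group G5 of the S16912 attempt (captain helper104).

Everything is written by functor of points on commutative `k`-algebras.  `GFun k` is a group
valued functor.  `Tower H` is a filtered family of group functors `N T → H` (`T` a "twist"), whose
graded pieces are functorial `H`-modules `Q T j`.  `Kill` is the killing lemma 1.5 in the form in
which it is used, and `Lift` is the output: an admissible `E → H`, a twist `T` and a homomorphism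
`s : E → N T` over `H`.  The properties are asked on flat algebras only.
-/

namespace Groth.Agent.ResProp.EF.K104

universe u w

/-- A group valued functor on commutative `k`-algebras. -/
structure GFun (k : Type u) [CommRing k] where
  /-- points -/
  pt : ∀ (B : Type u) [CommRing B] [Algebra k B], Type u
  /-- group structure -/
  [grp : ∀ (B : Type u) [CommRing B] [Algebra k B], Group (pt B)]
  /-- functoriality -/
  map : ∀ {B C : Type u} [CommRing B] [Algebra k B] [CommRing C] [Algebra k C],
    (B →ₐ[k] C) → pt B →* pt C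
  map_id : ∀ (B : Type u) [CommRing B] [Algebra k B] (x : pt B), map (AlgHom.id k B) x = x
  map_comp : ∀ {B C D : Type u} [CommRing B] [Algebra k B] [CommRing C] [Algebra k C]
    [CommRing D] [Algebra k D] (f : B →ₐ[k] C) (g : C →ₐ[k] D) (x : pt B),
    map (g.comp f) x = map g (map f x)

attribute [instance] GFun.grp

/-- A functor to additive commutative groups on commutative `k`-algebras. -/
structure AFun (k : Type u) [CommRing k] where
  /-- points -/
  pt : ∀ (B : Type u) [CommRing B] [Algebra k B], Type u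
  /-- group structure -/
  [grp : ∀ (B : Type u) [CommRing B] [Algebra k B], AddCommGroup (pt B)]
  /-- functoriality -/
  map : ∀ {B C : Type u} [CommRing B] [Algebra k B] [CommRing C] [Algebra k C],
    (B →ₐ[k] C) → pt B →+ pt C
  map_id : ∀ (B : Type u) [CommRing B] [Algebra k B] (x : pt B), map (AlgHom.id k B) x = x
  map_comp : ∀ {B C D : Type u} [CommRing B] [Algebra k B] [CommRing C] [Algebra k C]
    [CommRing D] [Algebra k D] (f : B →ₐ[k] C) (g : C →ₐ[k] D) (x : pt B),
    map (g.comp f) x = map g (map f x)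

attribute [instance] AFun.grp

variable {k : Type u} [CommRing k]

/-- Homomorphisms of group functors. -/
structure GHom (E N : GFun k) where
  /-- the maps on points -/
  app : ∀ (B : Type u) [CommRing B] [Algebra k B], E.pt B →* N.pt B
  nat : ∀ {B C : Type u} [CommRing B] [Algebra k B] [CommRing C] [Algebra k C]
    (f : B →ₐ[k] C) (x : E.pt B), app C (E.map f x) = N.map f (app B x)

/-- Natural additive maps. -/
structure AHom (Q R : AFun k) where
  /-- the maps on points -/
  app : ∀ (B : Type u) [CommRing B] [Algebra k B], Q.pt B →+ R.pt B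
  nat : ∀ {B C : Type u} [CommRing B] [Algebra k B] [CommRing C] [Algebra k C]
    (f : B →ₐ[k] C) (x : Q.pt B), app C (Q.map f x) = R.map f (app B x)

/-- The identity. -/
def GHom.id (E : GFun k) : GHom E E where
  app B _ _ := MonoidHom.id _
  nat _ _ := rfl

/-- Composition. -/
def GHom.comp {E N P : GFun k} (f : GHom E N) (g : GHom N P) : GHom E P where
  app B _ _ := (g.app B).comp (f.app B)
  nat h x := by simp [f.nat, g.nat]

/-- `E` is corepresented by the `k`-algebra `A` (a universal point). -/
def GFun.RepBy (E : GFun k) (A : Type u) [CommRing A] [Algebra k A] : Prop :=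
  ∃ e : E.pt A, ∀ (B : Type u) [CommRing B] [Algebra k B] (x : E.pt B),
    ∃! f : A →ₐ[k] B, E.map f e = x

/-- `E` is corepresented by a flat `k`-algebra. -/
def GFun.FlatRep (E : GFun k) : Prop :=
  ∃ (A : Type u) (_ : CommRing A) (_ : Algebra k A), Module.Flat k A ∧ E.RepBy A

/-- A functorial module over the group functor `H`. -/
structure HMod (H : GFun k) extends AFun k where
  /-- the action -/
  act : ∀ (B : Type u) [CommRing B] [Algebra k B], H.pt B → pt B →+ pt B
  act_one : ∀ (B : Type u) [CommRing B] [Algebra k B] (x : pt B), act B 1 x = x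
  act_mul : ∀ (B : Type u) [CommRing B] [Algebra k B] (g h : H.pt B) (x : pt B),
    act B (g * h) x = act B g (act B h x)
  act_nat : ∀ {B C : Type u} [CommRing B] [Algebra k B] [CommRing C] [Algebra k C]
    (f : B →ₐ[k] C) (g : H.pt B) (x : pt B), map f (act B g x) = act C (H.map f g) (map f x)

/-- A natural family of `2`-cocycles (on flat algebras) of `E`, acting through `p : E → H`, with
values in the `H`-module `M`. -/
structure Coc {H : GFun k} (M : HMod H) (E : GFun k) (p : GHom E H) where
  /-- the family -/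
  c : ∀ (B : Type u) [CommRing B] [Algebra k B], E.pt B → E.pt B → M.pt B
  nat : ∀ {B C : Type u} [CommRing B] [Algebra k B] [CommRing C] [Algebra k C]
    [Module.Flat k B] [Module.Flat k C]
    (f : B →ₐ[k] C) (g h : E.pt B), c C (E.map f g) (E.map f h) = M.map f (c B g h)
  cocycle : ∀ (B : Type u) [CommRing B] [Algebra k B] [Module.Flat k B] (g h l : E.pt B),
    M.act B (p.app B g) (c B h l) + c B g (h * l) = c B g h + c B (g * h) l

/-- A natural family `E → N` of points (not a homomorphism). -/
structure Fam (E N : GFun k) where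
  /-- the family -/
  app : ∀ (B : Type u) [CommRing B] [Algebra k B], E.pt B → N.pt B
  nat : ∀ {B C : Type u} [CommRing B] [Algebra k B] [CommRing C] [Algebra k C]
    (f : B →ₐ[k] C) (x : E.pt B), app C (E.map f x) = N.map f (app B x)

/-- A tower of group functors over `H` with twists: the output of section 4.
`N T → H` is onto on flat algebras, `Fil T j` (`1 ≤ j ≤ n + 1`) are the steps of the filtration of
its kernel, `Fil T 1 = ker`, `Fil T (n + 1) = 1`, and `q T j : Fil T j → Q T j` is onto with kernel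
`Fil T (j + 1)`. -/
structure Tower (H : GFun.{u} k) where
  /-- twists -/
  Tw : Type w
  /-- the unit twist -/
  one : Tw
  /-- product of twists -/
  mul : Tw → Tw → Tw
  /-- length -/
  n : ℕ
  /-- the group functors -/
  N : Tw → GFun k
  /-- projection -/
  π : ∀ T, GHom (N T) H
  π_surj : ∀ T (B : Type u) [CommRing B] [Algebra k B] [Module.Flat k B],
    Function.Surjective ((π T).app B)
  /-- the filtration -/
  Fil : ∀ (T : Tw) (j : ℕ) (B : Type u) [CommRing B] [Algebra k B], Subgroup ((N T).pt B)
  Fil_map : ∀ (T : Tw) (j : ℕ) {B C : Type u} [CommRing B] [Algebra k B] [CommRing C]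
    [Algebra k C] (f : B →ₐ[k] C) (x : (N T).pt B), x ∈ Fil T j B → (N T).map f x ∈ Fil T j C
  Fil_one : ∀ (T : Tw) (B : Type u) [CommRing B] [Algebra k B] [Module.Flat k B]
    (x : (N T).pt B), (π T).app B x = 1 → x ∈ Fil T 1 B
  Fil_last : ∀ (T : Tw) (B : Type u) [CommRing B] [Algebra k B] [Module.Flat k B]
    (x : (N T).pt B), x ∈ Fil T (n + 1) B → x = 1
  Fil_π : ∀ (T : Tw) (j : ℕ) (B : Type u) [CommRing B] [Algebra k B]
    (x : (N T).pt B), 1 ≤ j → x ∈ Fil T j B → (π T).app B x = 1
  Fil_conj : ∀ (T : Tw) (j : ℕ) (B : Type u) [CommRing B] [Algebra k B]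
    (m x : (N T).pt B), x ∈ Fil T j B → m * x * m⁻¹ ∈ Fil T j B
  /-- the graded pieces -/
  Q : Tw → ℕ → HMod H
  /-- projection to the graded pieces -/
  q : ∀ (T : Tw) (j : ℕ) (B : Type u) [CommRing B] [Algebra k B], Fil T j B → (Q T j).pt B
  q_nat : ∀ (T : Tw) (j : ℕ) {B C : Type u} [CommRing B] [Algebra k B] [CommRing C]
    [Algebra k C] [Module.Flat k B] [Module.Flat k C] (f : B →ₐ[k] C) (x : Fil T j B),
    q T j C ⟨(N T).map f x, Fil_map T j f x x.2⟩ = (Q T j).map f (q T j B x)
  q_mul : ∀ (T : Tw) (j : ℕ) (B : Type u) [CommRing B] [Algebra k B] [Module.Flat k B]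
    (x y : Fil T j B), 1 ≤ j → j ≤ n → q T j B (x * y) = q T j B x + q T j B y
  q_surj : ∀ (T : Tw) (j : ℕ) (B : Type u) [CommRing B] [Algebra k B] [Module.Flat k B],
    1 ≤ j → j ≤ n → Function.Surjective (q T j B)
  q_ker : ∀ (T : Tw) (j : ℕ) (B : Type u) [CommRing B] [Algebra k B] [Module.Flat k B]
    (x : Fil T j B), 1 ≤ j → j ≤ n → q T j B x = 0 → (x : (N T).pt B) ∈ Fil T (j + 1) B
  q_conj : ∀ (T : Tw) (j : ℕ) (B : Type u) [CommRing B] [Algebra k B] [Module.Flat k B]
    (m : (N T).pt B) (x : Fil T j B), 1 ≤ j → j ≤ n →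
    q T j B ⟨m * x * m⁻¹, Fil_conj T j B m x x.2⟩ = (Q T j).act B ((π T).app B m) (q T j B x)
  /-- twisting -/
  τ : ∀ T T', GHom (N T) (N (mul T T'))
  τ_π : ∀ (T T' : Tw) (B : Type u) [CommRing B] [Algebra k B] (x : (N T).pt B),
    (π (mul T T')).app B ((τ T T').app B x) = (π T).app B x
  τ_Fil : ∀ (T T' : Tw) (j : ℕ) (B : Type u) [CommRing B] [Algebra k B] (x : (N T).pt B),
    x ∈ Fil T j B → (τ T T').app B x ∈ Fil (mul T T') j B
  /-- twisting on the graded pieces: `x ↦ x ⊗ 1` -/
  θ : ∀ (T T' : Tw) (j : ℕ), AHom (Q T j).toAFun (Q (mul T T') j).toAFun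
  q_τ : ∀ (T T' : Tw) (j : ℕ) (B : Type u) [CommRing B] [Algebra k B] [Module.Flat k B]
    (x : Fil T j B), 1 ≤ j → j ≤ n →
    q (mul T T') j B ⟨(τ T T').app B x, τ_Fil T T' j B x x.2⟩ =
      (θ T T' j).app B (q T j B x)

/-- The killing lemma 1.5, for the graded pieces of the tower `W`. -/
def Kill {H : GFun.{u} k} (W : Tower.{u, w} H) (Adm : ∀ E : GFun k, GHom E H → Prop) : Prop :=
  ∀ (E : GFun k) (p : GHom E H), Adm E p → ∀ (T : W.Tw) (j : ℕ), 1 ≤ j → j ≤ W.n →
    ∀ c : Coc (W.Q T j) E p,
      ∃ (E' : GFun k) (r : GHom E' E) (T' : W.Tw), Adm E' (r.comp p) ∧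
        ∃ b : ∀ (B : Type u) [CommRing B] [Algebra k B], E'.pt B → (W.Q (W.mul T T') j).pt B,
          (∀ {B C : Type u} [CommRing B] [Algebra k B] [CommRing C] [Algebra k C]
            [Module.Flat k B] [Module.Flat k C] (f : B →ₐ[k] C) (x : E'.pt B),
            b C (E'.map f x) = (W.Q (W.mul T T') j).map f (b B x)) ∧
          ∀ (B : Type u) [CommRing B] [Algebra k B] [Module.Flat k B] (g h : E'.pt B),
            (W.θ T T' j).app B (c.c B (r.app B g) (r.app B h)) =
              (W.Q (W.mul T T') j).act B (p.app B (r.app B g)) (b B h) - b B (g * h) + b B g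

/-- The output of section 5. -/
def Lift {H : GFun.{u} k} (W : Tower.{u, w} H) (Adm : ∀ E : GFun k, GHom E H → Prop) : Prop :=
  ∃ (E : GFun k) (p : GHom E H) (T : W.Tw) (s : GHom E (W.N T)), Adm E p ∧
    ∀ (B : Type u) [CommRing B] [Algebra k B] (x : E.pt B), (W.π T).app B (s.app B x) = p.app B x

/-- **Proposition 5**. -/
def Prop5 (k : Type u) [CommRing k] : Prop :=
  ∀ (H : GFun.{u} k) (W : Tower.{u, w} H) (Adm : ∀ E : GFun k, GHom E H → Prop),
    (∀ E p, Adm E p → E.FlatRep) → Adm H (GHom.id H) → Kill W Adm → Lift W Adm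

end Groth.Agent.ResProp.EF.K104
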