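import Groth.Agent.ResProp.EF.K104.Prop5
import Groth.Agent.ResProp.EF.K104.MatRep
import Groth.Agent.ResProp.EF.K208.Pts

/-!
# G5: admissible groups as group functors, and the output of section 5 as a representation

`AdmP H0 E p`: `(E, p)` is the functor of points of a group which is admissible over `H0` (`Grp.Adm`).
`lift_rep`: `K104.Lift` for a tower `W` over `pts H0` and a natural linearization of the group
functors `W.N T` on `I T → M` gives an admissible group, a twist and a representation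
(functor of points `Rep`, so a comodule `Rep.comod`) on `I T → M`.
-/

set_option autoImplicit false

universe u w w' v

open TensorProduct WithConv

noncomputable section

namespace Groth.Agent.ResProp.EF.K104

open Groth.Agent.ResProp.EF.Grp Groth.Agent.ResProp.EF.K208

attribute [local instance] K208.convGrp

variable {k : Type u} [CommRing k]

/-- `(E, p)` is the functor of points of an admissible group over `H0`. -/
def AdmP (H0 : Gp k) (E : GFun k) (p : GHom E (pts H0)) : Prop :=
  ∃ (E0 : Gp k) (ι : H0.O →ₐc[k] E0.O), Grp.Adm H0 E0 ι ∧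
    (⟨E, p⟩ : Σ E : GFun k, GHom E (pts H0)) = ⟨pts E0, ptsHom ι⟩

theorem AdmP.flatRep {H0 : Gp k} (E : GFun k) (p : GHom E (pts H0)) (h : AdmP H0 E p) :
    E.FlatRep := by
  obtain ⟨E0, ι, -, h⟩ := h
  obtain ⟨rfl, h⟩ := Sigma.mk.inj_iff.1 h
  exact pts_flatRep E0

theorem AdmP.base (H0 : Gp k) : AdmP H0 (pts H0) (GHom.id (pts H0)) :=
  ⟨H0, BialgHom.id k H0.O, Grp.Adm.base, rfl⟩

theorem AdmP.step {H0 : Gp k} {E0 : Gp k} {ι : H0.O →ₐc[k] E0.O} (h : Grp.Adm H0 E0 ι)
    (S : OneStep E0) : AdmP H0 (pts S.E') ((ptsHom S.ι).comp (ptsHom ι)) :=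
  ⟨S.E', S.ι.comp ι, Grp.Adm.step E0 ι h S, rfl⟩

/-- an algebra map as a point -/
def mkPt (E : Gp k) {B : Type u} [CommRing B] [Algebra k B] (g : E.O →ₐ[k] B) : (pts E).pt B :=
  (toConv g : WithConv (E.O →ₐ[k] B))

theorem mkPt_pmul (E : Gp k) {B : Type u} [CommRing B] [Algebra k B]
    (g h : E.O →ₐ[k] B) : mkPt E (pmul g h) = mkPt E g * mkPt E h := by
  show (toConv (pmul g h) : WithConv (E.O →ₐ[k] B)) = toConv g * toConv h
  rw [AlgHom.convMul_def]
  have e : Algebra.TensorProduct.lift g h (fun _ _ => Commute.all _ _) =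
      (Algebra.TensorProduct.lmul' k).comp (Algebra.TensorProduct.map g h) := by
    ext <;> simp
  unfold pmul
  rw [e]
  rfl

theorem mkPt_pone (E : Gp k) (B : Type u) [CommRing B] [Algebra k B] :
    mkPt E (pone B) = 1 := by
  rfl

theorem map_mkPt (E : Gp k) {B C : Type u} [CommRing B] [Algebra k B] [CommRing C] [Algebra k C]
    (f : B →ₐ[k] C) (g : E.O →ₐ[k] B) : (pts E).map f (mkPt E g) = mkPt E (f.comp g) := rfl

theorem ptsHom_mkPt {E E' : Gp k} (φ : E.O →ₐc[k] E'.O) {B : Type u} [CommRing B] [Algebra k B]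
    (g : E'.O →ₐ[k] B) : (ptsHom φ).app B (mkPt E' g) = mkPt E (g.comp (φ : E.O →ₐ[k] E'.O)) := rfl

theorem exists_mkPt (E : Gp k) {B : Type u} [CommRing B] [Algebra k B] (x : (pts E).pt B) :
    ∃ g : E.O →ₐ[k] B, mkPt E g = x := ⟨WithConv.ofConv x, rfl⟩

theorem mkPt_injective (E : Gp k) {B : Type u} [CommRing B] [Algebra k B] {g h : E.O →ₐ[k] B}
    (e : mkPt E g = mkPt E h) : g = h := WithConv.toConv_injective e

/-- A linearization of the group functor `N` on `I → M`: natural (on flat algebras) matrices over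
`End_B (B ⊗ M)`. -/
structure Linz (N : GFun k) (I : Type v) [Fintype I] [DecidableEq I] (M : Type w) [AddCommGroup M]
    [Module k M] where
  /-- the operators -/
  app : ∀ (B : Type u) [CommRing B] [Algebra k B], N.pt B →
    Matrix I I (Module.End B (B ⊗[k] M))
  mul : ∀ (B : Type u) [CommRing B] [Algebra k B] [Module.Flat k B] (x y : N.pt B),
    app B (x * y) = app B x * app B y
  one : ∀ (B : Type u) [CommRing B] [Algebra k B] [Module.Flat k B], app B (1 : N.pt B) = 1
  nat : ∀ {B C : Type u} [CommRing B] [Algebra k B] [CommRing C] [Algebra k C]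
    [Module.Flat k B] [Module.Flat k C] (f : B →ₐ[k] C) (x : N.pt B) (i j : I) (y : B ⊗[k] M),
    f.toLinearMap.rTensor M (app B x i j y) = app C (N.map f x) i j (f.toLinearMap.rTensor M y)

/-- the representation of `E` given by a homomorphism `E → N` and a linearization of `N` -/
def Linz.rep {N : GFun k} {I : Type v} [Fintype I] [DecidableEq I] {M : Type w} [AddCommGroup M]
    [Module k M] (L : Linz N I M) (E : Gp k) (s : GHom (pts E) N) : Rep k E.O (I → M) :=
  matRep (fun B _ _ g => L.app B (s.app B (mkPt E g)))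
    (by
      intro B C _ _ _ _ _ _ f g i j y
      rw [L.nat, ← s.nat, map_mkPt])
    (by
      intro B _ _ _ g h
      rw [mkPt_pmul, map_mul, L.mul])
    (by
      intro B _ _ _
      rw [mkPt_pone, map_one, L.one])

theorem Linz.rep_s {N : GFun k} {I : Type v} [Fintype I] [DecidableEq I] {M : Type w}
    [AddCommGroup M] [Module k M] (L : Linz N I M) (E : Gp k) (s : GHom (pts E) N)
    (B : Type u) [CommRing B] [Algebra k B] (g : E.O →ₐ[k] B) :
    (L.rep E s).s B g = matOp B (L.app B (s.app B (mkPt E g))) := rfl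

/-- **G5, output.** -/
theorem lift_rep {H0 : Gp k} (W : Tower.{u, w'} (pts H0)) (hK : K104.Kill W (AdmP H0)) :
    ∃ (E : Gp k) (ι : H0.O →ₐc[k] E.O) (T : W.Tw) (s : GHom (pts E) (W.N T)), Grp.Adm H0 E ι ∧
      ∀ (B : Type u) [CommRing B] [Algebra k B] (g : E.O →ₐ[k] B),
        (W.π T).app B (s.app B (mkPt E g)) = mkPt H0 (g.comp (ι : H0.O →ₐ[k] E.O)) := by
  obtain ⟨E, p, T, s, ⟨E0, ι, hA, h⟩, hs⟩ := prop5.{u, w'} (pts H0) W (AdmP H0)
    (fun E p h => AdmP.flatRep E p h) (AdmP.base H0) hK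
  obtain ⟨rfl, h⟩ := Sigma.mk.inj_iff.1 h
  obtain rfl := eq_of_heq h
  exact ⟨E0, ι, T, s, hA, fun B _ _ g => hs B (mkPt E0 g)⟩

end Groth.Agent.ResProp.EF.K104
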