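import Groth.Agent.ResProp.EF.K104.GrRep
import Groth.Agent.ResProp.EF.K104.Adm
import Groth.Agent.ResProp.EF.K918.OpMod
import Groth.Agent.ResProp.EF.K698.GrK
import Groth.Agent.ResProp.EF.K363.LevDesc
import Groth.Agent.ResProp.EF.K959.SObj

/-!
# The `H`-side of AD4: modules with an action of the arrows at flat points

`FEq P G` : an action of the arrows of `P` between flat points on the base changes of `G` (`grEq X n` : `G = gr^n K`;
`etaEq X` : `G = D`).  For `lev : Lev k A (pts H) P`: `FEq.rep` (functor of points representation of `H` on `G`), `FEq.desc`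
(descent datum over `A`), `FEq.lin`, `FEq.equi` (the coaction is `R`-linear and commutes with the descent datum).
-/

set_option autoImplicit false
set_option linter.dupNamespace false

open CategoryTheory Opposite TensorProduct

noncomputable section

namespace Groth.Agent.ResProp.EF.K104

open K784.BC K784.PM K741.RP EF56 K980 K980.BC Grp Arch K208 K959 K959.CoBC K363 K784

universe u

/-! ### actions of the arrows at flat points -/

/-- an action of the arrows between flat points -/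
structure FEq {R : Type u} [CommRing R] (P : PGpd.{u} R) (G : Type u) [AddCommGroup G] [Module R G] where
  act : ∀ {R' : Type u} [CommRing R'] {x y : R →+* R'}, x.Flat → y.Flat → P.Hom x y → (BC x G ≃ₗ[R'] BC y G)
  act_id : ∀ {R' : Type u} [CommRing R'] {x : R →+* R'} (fx : x.Flat), act fx fx (P.id x) = LinearEquiv.refl R' _
  act_comp : ∀ {R' : Type u} [CommRing R'] {x y z : R →+* R'} (fx : x.Flat) (fy : y.Flat) (fz : z.Flat)
    (a : P.Hom x y) (b : P.Hom y z), act fx fz (P.comp a b) = (act fx fy a).trans (act fy fz b)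
  act_pull : ∀ {R' R'' : Type u} [CommRing R'] [CommRing R''] (f : R' →+* R'') {x y : R →+* R'} {x' y' : R →+* R''}
    (hx : f.comp x = x') (hy : f.comp y = y') (fx : x.Flat) (fy : y.Flat) (fx' : x'.Flat) (fy' : y'.Flat)
    (a : P.Hom x y), act fx' fy' (P.pull f hx hy a) = BC.pullE f hx hy (act fx fy a)

/-- the action on the graded pieces -/
def grEq {R : Type u} [CommRing R] {P : PGpd.{u} R} (X : AlgPkg.{u} P) (n : ℕ) : FEq P (K698.GK X.toOpCpx n) where
  act fx fy a := K698.gkAct fx fy a n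
  act_id fx := K698.gkAct_id fx n
  act_comp fx fy fz a b := K698.gkAct_comp fx fy fz a b n
  act_pull {_ _} _ _ f {_ _ _ _} hx hy fx fy fx' fy' a := K698.gkAct_pull f hx hy fx fy fx' fy' a n

/-- the action on `D` -/
def etaEq {R : Type u} [CommRing R] {P : PGpd.{u} R} (X : AlgPkg.{u} P) : FEq P X.D where
  act _ _ a := X.eta.act a
  act_id _ := X.eta.act_id _
  act_comp _ _ _ a b := X.eta.act_comp a b
  act_pull {_ _} _ _ f {_ _ _ _} hx hy _ _ _ _ a := X.eta.act_pull f hx hy a

/-! ### `B ⊗ N = BC x N` for `x = inr` -/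

section Kpx

variable {k : Type u} [CommRing k] {R : Type u} [CommRing R] [Algebra k R] (B : Type u) [CommRing B] [Algebra k B]
  {x : R →+* B ⊗[k] R} (hx : x = K784.inr (k := k) (R' := R) B) (N : Type u) [AddCommGroup N] [Module k N]
  [Module R N] [IsScalarTower k R N]

/-- `b ⊗ n ↦ (b ⊗ 1) • bc n` -/
def kpx : B ⊗[k] N ≃+ BC x N := by
  subst hx
  exact K918.OpMod.kapE R N B

theorem kpx_tmul (b : B) (n : N) : kpx B hx N (b ⊗ₜ n) = (b ⊗ₜ[k] (1 : R)) • bc x n := by
  subst hx
  rfl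

theorem kpx_one_tmul (n : N) : kpx B hx N (1 ⊗ₜ n) = bc x n := by
  rw [kpx_tmul]
  exact one_smul _ _

theorem kpx_smul (b : B) (z : B ⊗[k] N) : kpx B hx N (b • z) = (b ⊗ₜ[k] (1 : R)) • kpx B hx N z := by
  subst hx
  exact K918.OpMod.kap_smul B b z

/-- operators over `B ⊗ R` as operators of `B ⊗ N` -/
def trE (T : BC x N →ₗ[B ⊗[k] R] BC x N) : Module.End B (B ⊗[k] N) where
  toFun z := (kpx B hx N).symm (T (kpx B hx N z))
  map_add' y z := by rw [map_add, map_add, map_add]
  map_smul' b z := by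
    rw [AddEquiv.symm_apply_eq, RingHom.id_apply, kpx_smul, LinearMap.map_smul, kpx_smul, AddEquiv.apply_symm_apply]

theorem kpx_trE (T : BC x N →ₗ[B ⊗[k] R] BC x N) (z : B ⊗[k] N) :
    kpx B hx N (trE B hx N T z) = T (kpx B hx N z) := (kpx B hx N).apply_symm_apply _

variable {N} in
theorem kpx_lTensor {L : Type u} [AddCommGroup L] [Module k L] [Module R L] [IsScalarTower k R L] (g : N →ₗ[R] L)
    (g' : N →ₗ[k] L) (hg : ∀ v, g' v = g v) (z : B ⊗[k] N) :
    kpx B hx L (g'.lTensor B z) = BC.map x g (kpx B hx N z) := by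
  induction z with
  | zero => simp only [map_zero]
  | tmul c n => rw [LinearMap.lTensor_tmul, kpx_tmul, kpx_tmul, LinearMap.map_smul, BC.map_bc, hg]
  | add x y hx hy => simp only [map_add, hx, hy]

end Kpx

section KpxNat

variable {k : Type u} [CommRing k] {R : Type u} [CommRing R] [Algebra k R] {B : Type u} [CommRing B] [Algebra k B]
  {C : Type u} [CommRing C] [Algebra k C]
  {x : R →+* B ⊗[k] R} (hx : x = K784.inr (k := k) (R' := R) B) {y : R →+* C ⊗[k] R}
  (hy : y = K784.inr (k := k) (R' := R) C) (N : Type u) [AddCommGroup N] [Module k N]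
  [Module R N] [IsScalarTower k R N]

theorem kpx_rTensor (f : B →ₐ[k] C) (g : B ⊗[k] R →+* C ⊗[k] R) (hg : ∀ b r, g (b ⊗ₜ r) = f b ⊗ₜ r)
    (h : g.comp x = y) (z : B ⊗[k] N) :
    kpx C hy N (f.toLinearMap.rTensor N z) = BC.tr g h (kpx B hx N z) := by
  induction z with
  | zero => simp only [map_zero]
  | tmul c n =>
    rw [LinearMap.rTensor_tmul, kpx_tmul, kpx_tmul, LinearMap.map_smulₛₗ, BC.tr_bc, hg]
    rfl
  | add x y hx hy => simp only [map_add, hx, hy]

end KpxNat

/-! ### flatness of the points -/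

section Pts

theorem vx_flat (k : Type u) [CommRing k] (A : NFᵒᵖ ⥤ CommRingCat.{u}) [GRF k A] (n : ℕ) (i : Fin (n + 1)) :
    (vx A ⟨n⟩ i).Flat := flat_pt (GRF.gr (k := k) (A := A)) n i

variable {k : Type u} [CommRing k] {A : NFᵒᵖ ⥤ CommRingCat.{u}} [GRF k A]

variable (k A) in
theorem xp_flat (B : Type u) [CommRing B] [Algebra k B] [Module.Flat k B] (n : ℕ) (i : Fin (n + 1)) :
    (xp k A B n i).Flat := by
  have h := RingHom.Flat.comp (vx_flat k A n i) (inr_flat (k := k) (R' := A.obj (op ⟨n⟩)) B)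
  exact h

variable (A) in
theorem rg_pt_zero : rg A (pt ⟨0⟩ 0) = RingHom.id (A.obj (op ⟨0⟩)) := by
  have : pt (⟨0⟩ : NF) 0 = 𝟙 _ := by
    funext i
    exact Subsingleton.elim (α := Fin 1) _ _
  rw [this, rg_id]

variable (k A) in
theorem xp_zero (B : Type u) [CommRing B] [Algebra k B] :
    xp k A B 0 0 = K784.inr (k := k) (R' := A.obj (op ⟨0⟩)) B := by
  change (K784.inr (k := k) (R' := A.obj (op ⟨0⟩)) B).comp (rg A (pt ⟨0⟩ 0)) = _
  rw [rg_pt_zero]
  rfl

/-- the map of points `⟨0⟩` of a map of algebras -/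
theorem lv_zero {B C : Type u} [CommRing B] [Algebra k B] [CommRing C] [Algebra k C] (f : B →ₐ[k] C) (b : B)
    (r : A.obj (op ⟨0⟩)) : lv k A f (fun t : Fin (0 + 1) => t) (b ⊗ₜ r) = f b ⊗ₜ r := by
  change f b ⊗ₜ rg A (vmap (fun t : Fin (0 + 1) => t)) r = _
  have h2 : vmap (fun t : Fin (0 + 1) => t) = 𝟙 (⟨0⟩ : NF) := rfl
  rw [h2, rg_id]
  rfl

end Pts

/-! ### the representation of `H` -/

section Rep

variable {k : Type u} [CommRing k] {A : NFᵒᵖ ⥤ CommRingCat.{u}} [GRF k A] {H : Gp k}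
  {P : PGpd.{u} (A.obj (op ⟨0⟩))} (lev : Lev k A (pts H) P) {G : Type u} [AddCommGroup G]
  [Module (A.obj (op ⟨0⟩)) G] (V : FEq P G)

/-- the operator of an arrow over `B ⊗ A⟨n⟩` -/
def FEq.hdl (B : Type u) [CommRing B] [Algebra k B] [Module.Flat k B] (n : ℕ) (i j : Fin (n + 1)) (h : (pts H).pt B) :
    BC (xp k A B n i) G ≃ₗ[B ⊗[k] A.obj (op ⟨n⟩)] BC (xp k A B n j) G :=
  V.act (xp_flat k A B n i) (xp_flat k A B n j) (lev.ar B n i j h)

theorem FEq.hdl_one (B : Type u) [CommRing B] [Algebra k B] [Module.Flat k B] (n : ℕ) (i : Fin (n + 1)) :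
    V.hdl lev B n i i 1 = LinearEquiv.refl _ _ := by
  rw [FEq.hdl, lev.ar_one]
  exact V.act_id _

theorem FEq.hdl_comp (B : Type u) [CommRing B] [Algebra k B] [Module.Flat k B] (n : ℕ) (i j l : Fin (n + 1))
    (h h' : (pts H).pt B) (z : BC (xp k A B n i) G) :
    V.hdl lev B n j l h' (V.hdl lev B n i j h z) = V.hdl lev B n i l (h' * h) z := by
  rw [FEq.hdl, FEq.hdl, FEq.hdl, ← lev.ar_comp B n i j l h h', V.act_comp _ (xp_flat k A B n j) _]
  rfl

theorem FEq.hdl_tr {B C : Type u} [CommRing B] [Algebra k B] [CommRing C] [Algebra k C] [Module.Flat k B]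
    [Module.Flat k C] (f : B →ₐ[k] C) {m n : ℕ} (a : Fin (m + 1) → Fin (n + 1)) (i j : Fin (m + 1))
    (h : (pts H).pt B) (z : BC (xp k A B m i) G) :
    V.hdl lev C n (a i) (a j) ((pts H).map f h) (BC.tr (lv k A f a) (lv_xp k A f a i) z) =
      BC.tr (lv k A f a) (lv_xp k A f a j) (V.hdl lev B m i j h z) := by
  have e : V.hdl lev C n (a i) (a j) ((pts H).map f h) =
      BC.pullE (lv k A f a) (lv_xp k A f a i) (lv_xp k A f a j) (V.hdl lev B m i j h) := by
    rw [FEq.hdl, ← lev.ar_pull f a i j h, V.act_pull _ _ _ (xp_flat k A B m i) (xp_flat k A B m j)]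
    rfl
  rw [e]
  exact BC.pullE_tr _ _ _ _

variable [Module k G] [IsScalarTower k (A.obj (op ⟨0⟩)) G]

open Classical in
/-- the operators of the points of `H` -/
def FEq.sOp (B : Type u) [CommRing B] [Algebra k B] (g : H.O →ₐ[k] B) : B ⊗[k] G →ₗ[B] B ⊗[k] G :=
  if hB : Module.Flat k B then
    trE B (xp_zero k A B) G (V.hdl lev B 0 0 0 (mkPt H g)).toLinearMap
  else 0

theorem FEq.kpx_sOp (B : Type u) [CommRing B] [Algebra k B] [hB : Module.Flat k B] (g : H.O →ₐ[k] B)
    (z : B ⊗[k] G) : kpx B (xp_zero k A B) G (V.sOp lev B g z) =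
      V.hdl lev B 0 0 0 (mkPt H g) (kpx B (xp_zero k A B) G z) := by
  rw [FEq.sOp, dif_pos hB, kpx_trE]
  rfl

/-- **the representation of `H` on `G`** -/
def FEq.rep : Rep k H.O G where
  s B _ _ g := V.sOp lev B g
  nat {B C} _ _ _ _ _ _ f g z := by
    apply (kpx C (xp_zero k A C) G).injective
    rw [kpx_rTensor (xp_zero k A B) (xp_zero k A C) G f _ (lv_zero f) (lv_xp k A f (fun t : Fin (0 + 1) => t) 0),
      V.kpx_sOp, V.kpx_sOp,
      kpx_rTensor (xp_zero k A B) (xp_zero k A C) G f _ (lv_zero f) (lv_xp k A f (fun t : Fin (0 + 1) => t) 0)]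
    exact (V.hdl_tr lev f (fun t : Fin (0 + 1) => t) 0 0 (mkPt H g) _).symm
  mul B _ _ _ g h z := by
    apply (kpx B (xp_zero k A B) G).injective
    rw [V.kpx_sOp, V.kpx_sOp, V.kpx_sOp, V.hdl_comp, mkPt_pmul]
  one B _ _ _ z := by
    apply (kpx B (xp_zero k A B) G).injective
    rw [V.kpx_sOp, mkPt_pone, V.hdl_one]
    rfl

/-- the coaction of `H` on `G` -/
@[reducible] def FEq.comod : HopfRep.Comod k H.O G := (V.rep lev).comod

/-- the operators of the comodule are the given ones -/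
theorem FEq.op_eq (B : Type u) [CommRing B] [Algebra k B] [Module.Flat k B] (g : H.O →ₐ[k] B) :
    @K90.op k _ H.O _ _ G _ _ (V.comod lev) B _ _ g = V.sOp lev B g := by
  refine TensorProduct.AlgebraTensorModule.ext fun b m => ?_
  have h1 := @K90.op_tmul k _ H.O _ _ G _ _ (V.comod lev) B _ _ g b m
  rw [h1]
  have h2 := (V.rep lev).s_tmul B g b m
  refine Eq.trans ?_ h2.symm
  congr 1
  change TensorProduct.comm k G B (g.toLinearMap.lTensor G (TensorProduct.comm k H.O G ((V.rep lev).co' m))) = _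
  generalize (V.rep lev).co' m = y
  induction y with
  | zero => simp
  | add x y hx hy => simp only [map_add, hx, hy]
  | tmul a m => simp

end Rep

end Groth.Agent.ResProp.EF.K104
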