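import Groth.Agent.ResProp.EF.K104.GrRep

/-!
# G5: the Hopf module formula for `tensRep`
-/

set_option autoImplicit false

universe u w w' w'' v

open TensorProduct

noncomputable section

namespace Groth.Agent.ResProp.EF.K104

variable {k : Type u} [CommRing k] {A : Type u} [CommRing A] [Bialgebra k A]
  {I : Type v} [Fintype I] [DecidableEq I] (T : Matrix I I A)
  (hc : ∀ i j, Coalgebra.comul (R := k) (T i j) = ∑ l, T i l ⊗ₜ[k] T l j)
  (he : ∀ i j, Coalgebra.counit (R := k) (T i j) = (1 : Matrix I I k) i j)
  (G : Type w) [AddCommGroup G] [Module k G]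

/-- elements of `(I → G) ⊗ A` are determined by their coordinates -/
theorem ext_pi_rTensor {x y : (I → G) ⊗[k] A}
    (h : ∀ i, (LinearMap.proj (R := k) (φ := fun _ : I => G) i).rTensor A x =
      (LinearMap.proj (R := k) (φ := fun _ : I => G) i).rTensor A y) : x = y := by
  apply (TensorProduct.comm k (I → G) A).injective
  apply (TensorProduct.piRight k A A (fun _ : I => G)).injective
  funext i
  have e : ∀ x : (I → G) ⊗[k] A,
      TensorProduct.piRight k A A (fun _ : I => G) (TensorProduct.comm k (I → G) A x) i =
        TensorProduct.comm k G A ((LinearMap.proj (R := k) (φ := fun _ : I => G) i).rTensor A x) := by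
    intro x
    induction x with
    | zero => simp
    | add x y hx hy => simp only [map_add, Pi.add_apply, hx, hy]
    | tmul v a => simp
  rw [e, e, h]

variable [HopfRep.Comod k A G]

/-- the coaction of `tensRep` in coordinates -/
theorem tensRep_co (v : I → G) (i : I) :
    (LinearMap.proj (R := k) (φ := fun _ : I => G) i).rTensor A ((tensRep T hc he G).co v) =
      ∑ j, (LinearMap.mulLeft k (T i j)).lTensor G
        (HopfRep.Comod.coact (k := k) (A := A) (v j)) := by
  have e : ∀ x : A ⊗[k] (I → G),
      (LinearMap.proj (R := k) (φ := fun _ : I => G) i).rTensor A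
        (TensorProduct.comm k A (I → G) x) =
        TensorProduct.comm k A G (TensorProduct.piRight k A A (fun _ : I => G) x i) := by
    intro x
    induction x with
    | zero => simp
    | add x y hx hy => simp only [map_add, Pi.add_apply, hx, hy]
    | tmul v a => simp
  change (LinearMap.proj (R := k) (φ := fun _ : I => G) i).rTensor A
    (TensorProduct.comm k A (I → G) (matOp A (tensMat T G A (AlgHom.id k A)) (1 ⊗ₜ v))) = _
  rw [e, piRight_matOp, map_sum]
  refine Finset.sum_congr rfl fun j _ => ?_
  simp only [tensMat, Matrix.of_apply, LinearMap.smul_apply, AlgHom.coe_id, id_eq,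
    TensorProduct.piRight_apply, TensorProduct.piRightHom_tmul]
  rw [K90.op_tmul, one_smul]
  generalize HopfRep.Comod.coact (k := k) (A := A) (v j) = y
  induction y with
  | zero => simp
  | add x y hx hy => simp only [map_add, smul_add, hx, hy]
  | tmul m a => simp [TensorProduct.smul_tmul']

variable {D : Type w'} [CommRing D] [Algebra k D] [Module D G] [IsScalarTower k D G]
  (ρD : D →ₗ[k] D ⊗[k] A)

/-- **the Hopf module formula** for `tensRep`. -/
theorem tensRep_hopf
    (hG : ∀ (d : D) (m : G), HopfRep.Comod.coact (k := k) (A := A) (d • m) =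
      TensorProduct.map₂ (Algebra.lsmul k k G).toLinearMap (LinearMap.mul k A) (ρD d)
        (HopfRep.Comod.coact (k := k) (A := A) m)) (d : D) (v : I → G) :
    (tensRep T hc he G).co (d • v) =
      TensorProduct.map₂ (Algebra.lsmul k k (I → G)).toLinearMap (LinearMap.mul k A) (ρD d)
        ((tensRep T hc he G).co v) := by
  have e1 : ∀ (x : D ⊗[k] A) (y : (I → G) ⊗[k] A) (i : I),
      (LinearMap.proj (R := k) (φ := fun _ : I => G) i).rTensor A
        (TensorProduct.map₂ (Algebra.lsmul k k (I → G)).toLinearMap (LinearMap.mul k A) x y) =
      TensorProduct.map₂ (Algebra.lsmul k k G).toLinearMap (LinearMap.mul k A) x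
        ((LinearMap.proj (R := k) (φ := fun _ : I => G) i).rTensor A y) := by
    intro x y i
    induction x with
    | zero => simp
    | add x x' hx hx' => simp only [map_add, LinearMap.add_apply, hx, hx']
    | tmul d a =>
      induction y with
      | zero => simp
      | add y y' hy hy' => simp only [map_add, hy, hy']
      | tmul v b => simp
  have e2 : ∀ (x : D ⊗[k] A) (y : G ⊗[k] A) (t : A),
      (LinearMap.mulLeft k t).lTensor G
        (TensorProduct.map₂ (Algebra.lsmul k k G).toLinearMap (LinearMap.mul k A) x y) =
      TensorProduct.map₂ (Algebra.lsmul k k G).toLinearMap (LinearMap.mul k A) x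
        ((LinearMap.mulLeft k t).lTensor G y) := by
    intro x y t
    induction x with
    | zero => simp
    | add x x' hx hx' => simp only [map_add, LinearMap.add_apply, hx, hx']
    | tmul d a =>
      induction y with
      | zero => simp
      | add y y' hy hy' => simp only [map_add, hy, hy']
      | tmul v b => simp [mul_left_comm]
  apply ext_pi_rTensor
  intro i
  rw [e1, tensRep_co, tensRep_co, map_sum]
  refine Finset.sum_congr rfl fun j _ => ?_
  rw [Pi.smul_apply, hG, e2]

end Groth.Agent.ResProp.EF.K104
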