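import Groth.Agent.ResProp.EF.K104.MatRep
import Groth.Agent.ResProp.EF.K90.Op

/-!
# G5: stable submodules and graded pieces of the representation on `I → M`

`Compat a π S S'`: the operator `S` of `B ⊗ M` preserves the image of `B ⊗ F` (`a : F → M`) and induces
`S'` on `B ⊗ G` (`π : F → G`).  `Compat.mat`: matrices of compatible operators are compatible.
`tensRep`: the representation on `I → G` (matrix comodule `R` times the comodule `G`).
`Rep.co_compat`: the coaction preserves the image of `I → F` and induces on `I → G` the given one.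
-/

set_option autoImplicit false

universe u w w' w'' v

open TensorProduct

noncomputable section

namespace Groth.Agent.ResProp.EF.K104

section Compat

variable {k : Type u} [CommRing k] {B : Type u} [CommRing B] [Algebra k B]
  {M : Type w} [AddCommGroup M] [Module k M] {F : Type w'} [AddCommGroup F] [Module k F]
  {G : Type w''} [AddCommGroup G] [Module k G]

/-- `S` preserves the image of `B ⊗ F` and induces `S'` on `B ⊗ G`. -/
def Compat (a : F →ₗ[k] M) (π : F →ₗ[k] G) (S : Module.End B (B ⊗[k] M))
    (S' : Module.End B (B ⊗[k] G)) : Prop :=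
  ∀ y : B ⊗[k] F, ∃ y' : B ⊗[k] F, a.lTensor B y' = S (a.lTensor B y) ∧
    π.lTensor B y' = S' (π.lTensor B y)

variable {a : F →ₗ[k] M} {π : F →ₗ[k] G}

theorem Compat.one : Compat a π (1 : Module.End B (B ⊗[k] M)) 1 := fun y => ⟨y, rfl, rfl⟩

theorem Compat.zero : Compat a π (0 : Module.End B (B ⊗[k] M)) 0 :=
  fun y => ⟨0, by simp, by simp⟩

theorem Compat.add {S T : Module.End B (B ⊗[k] M)} {S' T' : Module.End B (B ⊗[k] G)}
    (h : Compat a π S S') (h' : Compat a π T T') : Compat a π (S + T) (S' + T') := by
  intro y
  obtain ⟨y1, h1, h2⟩ := h y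
  obtain ⟨y2, h3, h4⟩ := h' y
  exact ⟨y1 + y2, by rw [map_add, h1, h3]; rfl, by rw [map_add, h2, h4]; rfl⟩

theorem Compat.mul {S T : Module.End B (B ⊗[k] M)} {S' T' : Module.End B (B ⊗[k] G)}
    (h : Compat a π S S') (h' : Compat a π T T') : Compat a π (S * T) (S' * T') := by
  intro y
  obtain ⟨y1, h1, h2⟩ := h' y
  obtain ⟨y2, h3, h4⟩ := h y1
  exact ⟨y2, by rw [h3, h1]; rfl, by rw [h4, h2]; rfl⟩

theorem lTensor_smul' (f : F →ₗ[k] M) (b : B) (y : B ⊗[k] F) :
    f.lTensor B (b • y) = b • f.lTensor B y := by
  induction y with
  | zero => simp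
  | add x y hx hy => simp only [smul_add, map_add, hx, hy]
  | tmul c m => simp [TensorProduct.smul_tmul']

theorem Compat.smul {S : Module.End B (B ⊗[k] M)} {S' : Module.End B (B ⊗[k] G)}
    (h : Compat a π S S') (b : B) : Compat a π (b • S) (b • S') := by
  intro y
  obtain ⟨y1, h1, h2⟩ := h y
  exact ⟨b • y1, by rw [lTensor_smul', h1]; rfl, by rw [lTensor_smul', h2]; rfl⟩

theorem Compat.sum {J : Type*} (s : Finset J) {S : J → Module.End B (B ⊗[k] M)}
    {S' : J → Module.End B (B ⊗[k] G)} (h : ∀ j ∈ s, Compat a π (S j) (S' j)) :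
    Compat a π (∑ j ∈ s, S j) (∑ j ∈ s, S' j) := by
  classical
  induction s using Finset.induction_on with
  | empty => simpa using Compat.zero
  | insert j s hj ih =>
    rw [Finset.sum_insert hj, Finset.sum_insert hj]
    exact (h j (Finset.mem_insert_self _ _)).add (ih fun i hi => h i (Finset.mem_insert_of_mem hi))

variable {I : Type v} [Fintype I] [DecidableEq I]

theorem piRight_lTensor (f : F →ₗ[k] M) (y : B ⊗[k] (I → F)) (i : I) :
    TensorProduct.piRight k B B (fun _ : I => M) ((f.compLeft I).lTensor B y) i =
      f.lTensor B (TensorProduct.piRight k B B (fun _ : I => F) y i) := by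
  induction y with
  | zero => simp
  | add x y hx hy => simp only [map_add, Pi.add_apply, hx, hy]
  | tmul b m => simp

theorem Compat.mat {S : Matrix I I (Module.End B (B ⊗[k] M))}
    {S' : Matrix I I (Module.End B (B ⊗[k] G))} (h : ∀ i j, Compat a π (S i j) (S' i j)) :
    Compat (a.compLeft I) (π.compLeft I) (matOp B S) (matOp B S') := by
  intro y
  choose z hz1 hz2 using fun i j => h i j (TensorProduct.piRight k B B (fun _ : I => F) y j)
  refine ⟨(TensorProduct.piRight k B B (fun _ : I => F)).symm (fun i => ∑ j, z i j), ?_, ?_⟩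
  · apply (TensorProduct.piRight k B B (fun _ : I => M)).injective
    funext i
    rw [piRight_lTensor, LinearEquiv.apply_symm_apply, piRight_matOp, map_sum]
    refine Finset.sum_congr rfl fun j _ => ?_
    rw [hz1, piRight_lTensor]
  · apply (TensorProduct.piRight k B B (fun _ : I => G)).injective
    funext i
    rw [piRight_lTensor, LinearEquiv.apply_symm_apply, piRight_matOp, map_sum]
    refine Finset.sum_congr rfl fun j _ => ?_
    rw [hz2, piRight_lTensor]

end Compat

section Tens

variable {k : Type u} [CommRing k] {A : Type u} [CommRing A] [Bialgebra k A]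
  {I : Type v} [Fintype I] [DecidableEq I] (R : Matrix I I A)
  (hc : ∀ i j, Coalgebra.comul (R := k) (R i j) = ∑ l, R i l ⊗ₜ[k] R l j)
  (he : ∀ i j, Coalgebra.counit (R := k) (R i j) = (1 : Matrix I I k) i j)
  (G : Type w) [AddCommGroup G] [Module k G] [HopfRep.Comod k A G]

/-- matrices of operators on `B ⊗ G` -/
def tensMat (B : Type u) [CommRing B] [Algebra k B] (h : A →ₐ[k] B) :
    Matrix I I (Module.End B (B ⊗[k] G)) :=
  Matrix.of fun i j => h (R i j) • K90.op G B h

/-- The representation on `I → G`: the matrix comodule `R` times the comodule `G`. -/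
def tensRep : Rep k A (I → G) :=
  matRep (fun B _ _ h => tensMat R G B h)
    (by
      intro B C _ _ _ _ _ _ f g i j y
      simp only [tensMat, Matrix.of_apply, LinearMap.smul_apply]
      rw [← K90.op_nat]
      generalize K90.op G B g y = z
      induction z with
      | zero => simp
      | add x y hx hy => simp only [map_add, smul_add, hx, hy]
      | tmul b m => simp [TensorProduct.smul_tmul'])
    (by
      intro B _ _ _ g h
      refine Matrix.ext fun i j => LinearMap.ext fun y => ?_
      rw [Matrix.mul_apply]
      simp only [tensMat, Matrix.of_apply, LinearMap.smul_apply, LinearMap.sum_apply,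
        Module.End.mul_apply, map_smul, smul_smul, K90.op_pmul]
      rw [← Finset.sum_smul]
      congr 1
      show (Algebra.TensorProduct.lift g h (fun _ _ => Commute.all _ _))
        (Coalgebra.comul (R := k) (R i j)) = _
      rw [hc, map_sum]
      simp only [Algebra.TensorProduct.lift_tmul]
      exact Finset.sum_congr rfl fun _ _ => mul_comm _ _)
    (by
      intro B _ _ _
      refine Matrix.ext fun i j => LinearMap.ext fun y => ?_
      simp only [tensMat, Matrix.of_apply, LinearMap.smul_apply, K90.op_pone]
      have h1 : (pone (A := A) B : A →ₐ[k] B) (R i j) = (1 : Matrix I I B) i j := by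
        show algebraMap k B (Coalgebra.counit (R := k) (R i j)) = _
        rw [he]
        simp only [Matrix.one_apply]
        split_ifs <;> simp
      rw [h1]
      simp only [Matrix.one_apply]
      split_ifs <;> simp)

end Tens

section Co

variable {k : Type u} [CommRing k] {A : Type u} [CommRing A] [Bialgebra k A] [Module.Flat k A]
  {A' : Type u} [CommRing A'] [Bialgebra k A'] [Module.Flat k A'] (ι : A' →ₐ[k] A)
  {M : Type w} [AddCommGroup M] [Module k M] {F : Type w'} [AddCommGroup F] [Module k F]
  {G : Type w''} [AddCommGroup G] [Module k G]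

/-- If the operator of the universal point is compatible, the coaction preserves the image of `F` and
induces on `G` the coaction of `r'` through `ι`. -/
theorem Rep.co_compat (r : Rep k A M) (r' : Rep k A' G) (a : F →ₗ[k] M) (π : F →ₗ[k] G)
    (h : Compat a π (r.s A (AlgHom.id k A)) (r'.s A ι)) (y : F) :
    ∃ z : F ⊗[k] A, a.rTensor A z = r.co (a y) ∧
      π.rTensor A z = ι.toLinearMap.lTensor G (r'.co (π y)) := by
  obtain ⟨z, h1, h2⟩ := h (1 ⊗ₜ y)
  refine ⟨TensorProduct.comm k A F z, ?_, ?_⟩
  · have e : ∀ z : A ⊗[k] F, a.rTensor A (TensorProduct.comm k A F z) =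
        TensorProduct.comm k A M (a.lTensor A z) := by
      intro z
      induction z with
      | zero => simp
      | add x y hx hy => simp only [map_add, hx, hy]
      | tmul b m => simp
    rw [e, h1, LinearMap.lTensor_tmul]
    rfl
  · have e : ∀ z : A ⊗[k] F, π.rTensor A (TensorProduct.comm k A F z) =
        TensorProduct.comm k A G (π.lTensor A z) := by
      intro z
      induction z with
      | zero => simp
      | add x y hx hy => simp only [map_add, hx, hy]
      | tmul b m => simp
    rw [e, h2, LinearMap.lTensor_tmul, r'.s_tmul, one_smul]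
    show _ = ι.toLinearMap.lTensor G (TensorProduct.comm k A' G (r'.co' (π y)))
    generalize r'.co' (π y) = x
    induction x with
    | zero => simp
    | add x y hx hy => simp only [map_add, hx, hy]
    | tmul b m => simp

end Co

end Groth.Agent.ResProp.EF.K104
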