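import Groth.Agent.ResProp.EF.K104.Out
import Groth.Agent.ResProp.EF.K104.GrRep

/-!
# G5: the coaction of `E` on `I → M`, filtration and graded pieces
-/

set_option autoImplicit false

universe u w w' w'' v

open TensorProduct WithConv

noncomputable section

namespace Groth.Agent.ResProp.EF.K104

open Groth.Agent.ResProp.EF.Grp Groth.Agent.ResProp.EF.K208 Groth.Agent.ResProp.EF.K649
  Groth.Agent.ResProp.EF.K661

variable {k : Type u} [CommRing k] {H0 : Gp k} {n : ℕ} {P : OpPkg (pts H0) n}
  {M : Type w} [AddCommGroup M] [Module k M] {I : Type} [Fintype I] [DecidableEq I]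

/-- **E-side on graded pieces.**  `F → M`, `F → G` with `G` an `H0`-comodule such that the lifts preserve
(the image of) `F` and induce the `H0`-action on `G`, and the operators `DD¹` preserve `F` and induce `0` on
`G`.  Then the `E`-coaction on `I → M` preserves (the image of) `I → F` and induces on `I → G` the coaction
through `ι : E → H0` of the `H0`-comodule `R ⊗ G`. -/
theorem OpAct.co_gr (A : OpAct P M) (R : MR (pts H0) I) (T : Matrix I I H0.O)
    (hc : ∀ i j, Coalgebra.comul (R := k) (T i j) = ∑ l, T i l ⊗ₜ[k] T l j)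
    (he : ∀ i j, Coalgebra.counit (R := k) (T i j) = (1 : Matrix I I k) i j)
    (hR : ∀ (B : Type u) [CommRing B] [Algebra k B] (g : H0.O →ₐ[k] B) (i j : I),
      ((R.ρ B (mkPt H0 g) : (Matrix I I B)ˣ) : Matrix I I B) i j = g (T i j))
    (E : Gp k) (ι : H0.O →ₐ[k] E.O) (s : GHom (pts E) (NF P R))
    (hs : ∀ (B : Type u) [CommRing B] [Algebra k B] (g : E.O →ₐ[k] B),
      (NFπ P R).app B (s.app B (mkPt E g)) = mkPt H0 (g.comp ι))
    {F : Type w'} [AddCommGroup F] [Module k F] {G : Type w''} [AddCommGroup G] [Module k G]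
    [HopfRep.Comod k H0.O G] (a : F →ₗ[k] M) (π : F →ₗ[k] G)
    (h1 : ∀ (B : Type u) [CommRing B] [Algebra k B] [Module.Flat k B] (g : H0.O →ₐ[k] B),
      ∀ ψ ∈ P.Lift B (mkPt H0 g), Compat a π (A.κ B (ψ : P.AA B)) (K90.op G B g))
    (h2 : ∀ (B : Type u) [CommRing B] [Algebra k B] [Module.Flat k B],
      ∀ X ∈ opD P B 1, Compat a π (A.κ B X) 0) (y : I → F) :
    ∃ z : (I → F) ⊗[k] E.O,
      (a.compLeft I).rTensor E.O z = ((A.linz R).rep E s).co (a.compLeft I y) ∧
      (π.compLeft I).rTensor E.O z =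
        ι.toLinearMap.lTensor (I → G) ((tensRep T hc he G).co (π.compLeft I y)) := by
  refine Rep.co_compat ι _ _ (a.compLeft I) (π.compLeft I) ?_ y
  have hx := hs E.O (AlgHom.id k E.O)
  rw [AlgHom.id_comp] at hx
  set x := s.app E.O (mkPt E (AlgHom.id k E.O)) with hxd
  have hx1 : x.1.1 = mkPt H0 ι := hx
  obtain ⟨ψ, hψ, X, hX, e⟩ := A.exists_dec R E.O x
  rw [hx1] at hψ e
  have e1 : ((A.linz R).rep E s).s E.O (AlgHom.id k E.O) =
      matOp E.O ((A.linz R).app E.O x) := rfl
  have e2 : (tensRep T hc he G).s E.O ι = matOp E.O (tensMat T G E.O ι) := rfl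
  rw [e1, e2, e]
  apply Compat.mat
  intro i j
  have hS : Compat a π (∑ l, ((((R.ρ E.O (mkPt H0 ι) : (Matrix I I E.O)ˣ) : Matrix I I E.O) i l) •
        A.κ E.O (ψ : P.AA E.O)) * ((1 + X.map (A.κ E.O)) l j))
      (∑ l, ((ι (T i l)) • K90.op G E.O ι) * ((1 : Matrix I I (Module.End E.O (E.O ⊗[k] G))) l j)) := by
    refine Compat.sum _ fun l _ => Compat.mul ?_ ?_
    · rw [hR]
      exact (h1 E.O ι ψ hψ).smul _
    · have h3 := h2 E.O (X l j) (hX l j)
      have h4 : Compat a π ((1 : Matrix I I (Module.End E.O (E.O ⊗[k] M))) l j)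
          ((1 : Matrix I I (Module.End E.O (E.O ⊗[k] G))) l j) := by
        by_cases hlj : l = j
        · subst hlj
          rw [Matrix.one_apply_eq, Matrix.one_apply_eq]
          exact Compat.one
        · rw [Matrix.one_apply_ne hlj, Matrix.one_apply_ne hlj]
          exact Compat.zero
      have h5 := h4.add h3
      rw [add_zero] at h5
      exact h5
  have e3 : (∑ l, ((ι (T i l)) • K90.op G E.O ι) *
      ((1 : Matrix I I (Module.End E.O (E.O ⊗[k] G))) l j)) = tensMat T G E.O ι i j := by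
    rw [Finset.sum_eq_single j]
    · rw [Matrix.one_apply_eq, mul_one]
      rfl
    · intro l _ hl
      rw [Matrix.one_apply_ne hl, mul_zero]
    · intro h
      exact absurd (Finset.mem_univ _) h
  rw [e3] at hS
  exact hS

end Groth.Agent.ResProp.EF.K104
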