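import Groth.Agent.ResProp.EF.K661.TowerD
import Groth.Agent.ResProp.EF.K649.GrMod
import Groth.Agent.ResProp.EF.K90.Tw
import Groth.Agent.ResProp.EF.K778.TowerMod
import Groth.Agent.ResProp.EF.K104.OutGr
import Groth.Agent.ResProp.EF.K104.Hopf

/-!
# G5 closed: operator package + killing lemma ⟹ an admissible group acts

`g5`: for an operator package `P` over the points of `H0` and the killing lemma `Grp.Kill H0` there are an
admissible group `E → H0`, a matrix comodule `T` of `H0` (nonempty index set) and a homomorphism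
`E → N_T` over `H0`.
-/

set_option autoImplicit false

universe u w w' w''

open TensorProduct WithConv

noncomputable section

namespace Groth.Agent.ResProp.EF.K104

open Groth.Agent.ResProp.EF.Grp Groth.Agent.ResProp.EF.K208 Groth.Agent.ResProp.EF.K649
  Groth.Agent.ResProp.EF.K661 Groth.Agent.ResProp.EF.K90

variable {k : Type u} [CommRing k] {H0 : Gp k} {n : ℕ}

/-- the graded pieces with their coactions -/
def grDat (P : OpPkg (pts H0) n) : GrDat P where
  co := grCo P
  act_eq := actM_gr P

/-- the tower of an operator package -/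
abbrev twr (P : OpPkg (pts H0) n) : Tower.{u, max 1 u} (pts H0) := tower (grDat P)

/-- the modules behind the tower -/
def twrMod (P : OpPkg (pts H0) n) : K778.TowerMod H0 (twr P) where
  Q T j := matG T ((grDat P).gr j)
  iso T j _ _ B _ _ _ := isoF T ((grDat P).gr j) B
  iso_nat T j _ _ {B C} _ _ _ _ _ _ f x := isoF_nat T ((grDat P).gr j) f x
  iso_act T j _ _ B _ _ _ g x := isoF_act T ((grDat P).gr j) B g x
  tw T' hT e T j _ _ := by
    obtain ⟨t, φ, h1, h2⟩ := exists_tw T' hT e T ((grDat P).gr j)
    exact ⟨t, φ, h1, fun B _ _ _ x => h2 B x⟩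

/-- **G5.** -/
theorem g5 (hK : Grp.Kill H0) (P : OpPkg (pts H0) n) :
    ∃ (E : Gp k) (ι : H0.O →ₐc[k] E.O) (T : MRep H0) (s : GHom (pts E) (NF P (mr T))),
      Grp.Adm H0 E ι ∧
      ∀ (B : Type u) [CommRing B] [Algebra k B] (g : E.O →ₐ[k] B),
        (NFπ P (mr T)).app B (s.app B (mkPt E g)) = mkPt H0 (g.comp (ι : H0.O →ₐ[k] E.O)) :=
  lift_rep (twr P) (K778.kill_of_towerMod H0 hK (twr P) (twrMod P))

end Groth.Agent.ResProp.EF.K104
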