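import Groth.Agent.ResProp.EF.K104.G5

/-!
# G5: the output, specialised to matrix comodules `T : MRep H0`
-/

set_option autoImplicit false

universe u w w' w''

open TensorProduct WithConv

noncomputable section

namespace Groth.Agent.ResProp.EF.K104

open Groth.Agent.ResProp.EF.Grp Groth.Agent.ResProp.EF.K208 Groth.Agent.ResProp.EF.K649
  Groth.Agent.ResProp.EF.K661 Groth.Agent.ResProp.EF.K90

variable {k : Type u} [CommRing k] {H0 : Gp k} {n : ℕ} {P : OpPkg (pts H0) n}
  {M : Type w} [AddCommGroup M] [Module k M]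

/-- the representation of `E` on `T.I → M` -/
def eRep (A : OpAct P M) (T : MRep H0) (E : Gp k) (s : GHom (pts E) (NF P (mr T))) :
    Rep k E.O (T.I → M) := (A.linz (mr T)).rep E s

/-- the `E`-comodule `T.I → M` -/
abbrev eCo (A : OpAct P M) (T : MRep H0) (E : Gp k) (s : GHom (pts E) (NF P (mr T))) :
    HopfRep.Comod k E.O (T.I → M) := (eRep A T E s).comod

/-- the `H0`-comodule `T ⊗ G` on `T.I → G` -/
abbrev hCo (T : MRep H0) (G : Type w) [AddCommGroup G] [Module k G] [HopfRep.Comod k H0.O G] :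
    HopfRep.Comod k H0.O (T.I → G) := (tensRep T.R T.comul_R T.counit_R G).comod

theorem eCo_gr (A : OpAct P M) (T : MRep H0) (E : Gp k) (ι : H0.O →ₐc[k] E.O)
    (s : GHom (pts E) (NF P (mr T)))
    (hs : ∀ (B : Type u) [CommRing B] [Algebra k B] (g : E.O →ₐ[k] B),
      (NFπ P (mr T)).app B (s.app B (mkPt E g)) = mkPt H0 (g.comp (ι : H0.O →ₐ[k] E.O)))
    {F : Type w'} [AddCommGroup F] [Module k F] {G : Type w''} [AddCommGroup G] [Module k G]
    [HopfRep.Comod k H0.O G] (a : F →ₗ[k] M) (π : F →ₗ[k] G)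
    (h1 : ∀ (B : Type u) [CommRing B] [Algebra k B] [Module.Flat k B] (g : H0.O →ₐ[k] B),
      ∀ ψ ∈ P.Lift B (mkPt H0 g), Compat a π (A.κ B (ψ : P.AA B)) (K90.op G B g))
    (h2 : ∀ (B : Type u) [CommRing B] [Algebra k B] [Module.Flat k B],
      ∀ X ∈ opD P B 1, Compat a π (A.κ B X) 0) (y : T.I → F) :
    ∃ z : (T.I → F) ⊗[k] E.O,
      (a.compLeft T.I).rTensor E.O z = (eCo A T E s).coact (a.compLeft T.I y) ∧
      (π.compLeft T.I).rTensor E.O z =
        (ι : H0.O →ₐ[k] E.O).toLinearMap.lTensor (T.I → G)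
          ((hCo T G).coact (π.compLeft T.I y)) :=
  A.co_gr (mr T) T.R T.comul_R T.counit_R (fun _ _ _ _ _ _ => rfl) E (ι : H0.O →ₐ[k] E.O) s hs
    a π h1 h2 y

/-- operators commuting with all `κ B` commute with the coaction: `b : M → M'`, `B ⊗ b` intertwines
`κ` and `κ'` (e.g. the differential, the projections, the `R`-action; `M' = M`, `A' = A`). -/
theorem eCo_hom (A : OpAct P M) {M' : Type w} [AddCommGroup M'] [Module k M'] (A' : OpAct P M')
    (T : MRep H0) (E : Gp k) (s : GHom (pts E) (NF P (mr T))) (b : M →ₗ[k] M')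
    (hb : ∀ (B : Type u) [CommRing B] [Algebra k B] [Module.Flat k B] (X : P.AA B) (y : B ⊗[k] M),
      b.lTensor B (A.κ B X y) = A'.κ B X (b.lTensor B y)) :
    @Hoch.IsComodHom k _ E.O _ _ _ (T.I → M) _ _ (eCo A T E s) (T.I → M') _ _ (eCo A' T E s)
      (b.compLeft T.I) := by
  apply Rep.isComodHom
  intro m
  apply (TensorProduct.piRight k E.O E.O (fun _ : T.I => M')).injective
  funext i
  change TensorProduct.piRight k E.O E.O (fun _ : T.I => M')
    ((b.compLeft T.I).lTensor E.O (matOp E.O ((A.linz (mr T)).app E.O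
      (s.app E.O (mkPt E (AlgHom.id k E.O)))) (1 ⊗ₜ m))) i =
    TensorProduct.piRight k E.O E.O (fun _ : T.I => M')
    (matOp E.O ((A'.linz (mr T)).app E.O
      (s.app E.O (mkPt E (AlgHom.id k E.O)))) (1 ⊗ₜ (b.compLeft T.I m))) i
  rw [piRight_lTensor, piRight_matOp, piRight_matOp, map_sum]
  refine Finset.sum_congr rfl fun j _ => ?_
  exact hb E.O _ _

end Groth.Agent.ResProp.EF.K104
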