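import Groth.Agent.ResProp.EF.K104.FEq
import Groth.Agent.ResProp.EF.K104.Hopf
import Groth.Agent.ResProp.EF.K104.G5Out
import Groth.Agent.ResProp.EF.K303.ConsDef
import Groth.Agent.ResProp.EF.K918.ActGam
import Groth.Agent.ResProp.EF.K60.LevPkg

/-!
# The `H`-side of AD4 on the graded pieces `GrF X m = F m / F (m + 1)` (helper303's `ESide`: coH, compat, hopf)

For `o : ALGOut c`: `grCo o m : Comod k c.H.O (GrF o.X m)`; `gr_h1`, `gr_h2` : the two hypotheses of `eCo_gr` / `EOut.gr` for
lifts and for `DD¹`; `gr_hopf`, `gr_hopf_pow` : the Hopf module formula, on `GrF` and on `T.I → GrF`.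
-/

set_option autoImplicit false
set_option linter.dupNamespace false

open CategoryTheory Opposite TensorProduct

noncomputable section

namespace Groth.Agent.ResProp.EF.K104

open K784.BC K784.PM K741.RP EF56 K980 K980.BC Grp Arch K208 K959 K959.CoBC K363 K784 K303

universe u

/-! ### transport along an isomorphism -/

/-- transport -/
def FEq.congr {R : Type u} [CommRing R] {P : PGpd.{u} R} {G G' : Type u} [AddCommGroup G] [Module R G]
    [AddCommGroup G'] [Module R G'] (V : FEq P G) (e : G ≃ₗ[R] G') : FEq P G' where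
  act {R'} _ x y fx fy a := ((BC.congr (x := x) e).symm.trans (V.act fx fy a)).trans (BC.congr (x := y) e)
  act_id {R'} _ x fx := by
    rw [V.act_id]
    refine LinearEquiv.ext fun z => ?_
    exact (BC.congr (x := x) e).apply_symm_apply z
  act_comp {R'} _ x y z fx fy fz a b := by
    rw [V.act_comp fx fy fz]
    refine LinearEquiv.ext fun w => ?_
    simp only [LinearEquiv.trans_apply, LinearEquiv.symm_apply_apply]
  act_pull {R' R''} _ _ f {x y x' y'} hx hy fx fy fx' fy' a := by
    rw [V.act_pull f hx hy fx fy fx' fy']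
    apply LinearEquiv.toLinearMap_injective
    refine BC.hom_ext fun m => ?_
    have h1 : (BC.congr (x := x') e).symm (bc x' m) = bc x' (e.symm m) := BC.map_bc _ _
    have h2 : (BC.congr (x := x) e).symm (bc x m) = bc x (e.symm m) := BC.map_bc _ _
    refine Eq.trans ?_ (BC.pullE_bc hx hy _ m).symm
    change BC.map y' e.toLinearMap (BC.pullE f hx hy (V.act fx fy a) ((BC.congr (x := x') e).symm (bc x' m))) =
      BC.tr f hy (BC.map y e.toLinearMap (V.act fx fy a ((BC.congr (x := x) e).symm (bc x m))))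
    rw [h1, h2, BC.pullE_bc, BC.tr_map]

theorem FEq.congr_act {R : Type u} [CommRing R] {P : PGpd.{u} R} {G G' : Type u} [AddCommGroup G] [Module R G]
    [AddCommGroup G'] [Module R G'] (V : FEq P G) (e : G ≃ₗ[R] G') {R' : Type u} [CommRing R'] {x y : R →+* R'}
    (fx : x.Flat) (fy : y.Flat) (a : P.Hom x y) (z : BC x G) :
    (V.congr e).act fx fy a (BC.map x e.toLinearMap z) = BC.map y e.toLinearMap (V.act fx fy a z) := by
  change BC.map y e.toLinearMap (V.act fx fy a ((BC.congr (x := x) e).symm (BC.congr (x := x) e z))) = _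
  rw [LinearEquiv.symm_apply_apply]

/-! ### `Compat` from maps over `B ⊗ R` -/

section Cmp

variable {k : Type u} [CommRing k] {R : Type u} [CommRing R] [Algebra k R] {B : Type u} [CommRing B] [Algebra k B]
  {x : R →+* B ⊗[k] R} (hx : x = K784.inr (k := k) (R' := R) B)
  {K F G : Type u} [AddCommGroup K] [Module k K] [Module R K] [IsScalarTower k R K]
  [AddCommGroup F] [Module k F] [Module R F] [IsScalarTower k R F]
  [AddCommGroup G] [Module k G] [Module R G] [IsScalarTower k R G]

theorem compat_of (a : F →ₗ[k] K) (aR : F →ₗ[R] K) (ha : ∀ v, a v = aR v) (π : F →ₗ[k] G) (πR : F →ₗ[R] G)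
    (hπ : ∀ v, π v = πR v) (T : BC x K → BC x K) (T' : BC x G → BC x G)
    (h : ∀ v : BC x F, ∃ v' : BC x F, BC.map x aR v' = T (BC.map x aR v) ∧ BC.map x πR v' = T' (BC.map x πR v))
    (S : Module.End B (B ⊗[k] K)) (hS : ∀ z, kpx B hx K (S z) = T (kpx B hx K z))
    (S' : Module.End B (B ⊗[k] G)) (hS' : ∀ z, kpx B hx G (S' z) = T' (kpx B hx G z)) : Compat a π S S' := by
  intro y
  obtain ⟨v', h1, h2⟩ := h (kpx B hx F y)
  obtain ⟨y', rfl⟩ := (kpx B hx F).surjective v'
  refine ⟨y', ?_, ?_⟩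
  · apply (kpx B hx K).injective
    rw [kpx_lTensor B hx aR a ha, h1, hS, kpx_lTensor B hx aR a ha]
  · apply (kpx B hx G).injective
    rw [kpx_lTensor B hx πR π hπ, h2, hS', kpx_lTensor B hx πR π hπ]

end Cmp

/-! ### the graded pieces -/

section GrF

variable {R : Type u} [CommRing R] (X : OpCpx.{u} R) (m : ℕ)

/-- `F m / F (m + 1)` (helper303's `GrF`, over any ring `R`) -/
abbrev GQ {R : Type u} [CommRing R] (X : OpCpx.{u} R) (m : ℕ) : Type u := X.F m ⧸ (X.F (m + 1)).comap (X.F m).subtype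

/-- `F m` over `R` and over `Q` -/
def idF : K698.FK X m ≃ₗ[R] X.F m where
  toFun v := ⟨v.1, v.2⟩
  invFun v := ⟨v.1, v.2⟩
  map_add' _ _ := rfl
  map_smul' _ _ := rfl
  left_inv _ := rfl
  right_inv _ := rfl

/-- `F m → F m / F (m + 1)` over `R` -/
def mkR : K698.FK X m →ₗ[R] GQ X m :=
  (((X.F (m + 1)).comap (X.F m).subtype).mkQ.restrictScalars R) ∘ₗ (idF X m).toLinearMap

theorem mkR_surjective : Function.Surjective (mkR X m) := by
  intro z
  obtain ⟨v, rfl⟩ := Submodule.mkQ_surjective _ z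
  exact ⟨(idF X m).symm v, rfl⟩

theorem ker_mkR : LinearMap.ker (mkR X m) = (K698.FK X (m + 1)).submoduleOf (K698.FK X m) := by
  ext v
  rw [LinearMap.mem_ker]
  change (Submodule.Quotient.mk (p := (X.F (m + 1)).comap (X.F m).subtype) _ = 0) ↔ _
  rw [Submodule.Quotient.mk_eq_zero]
  rfl

/-- the two forms of `gr^m K` -/
def gE : K698.GK X m ≃ₗ[R] GQ X m :=
  (Submodule.quotEquivOfEq _ _ (ker_mkR X m).symm).trans
    ((mkR X m).quotKerEquivOfSurjective (mkR_surjective X m))

theorem gE_mk (v : K698.FK X m) : gE X m (Submodule.Quotient.mk v) = mkR X m v := rfl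

theorem gE_pi_smul (q : X.Q) (g : K698.GK X m) : gE X m (X.π q • g) = q • gE X m g := by
  induction g using Submodule.Quotient.induction_on with
  | _ v =>
    rw [K698.pi_smul_mkK, gE_mk, gE_mk]
    rfl

theorem map_gE_kdmul {R' : Type u} [CommRing R'] {x : R →+* R'} (q : BC x X.Q) (g : BC x (K698.GK X m)) :
    BC.map x (gE X m).toLinearMap (K698.kdmul X x m (X.πx x q) g) =
      BC.bil x (smulR R X.Q (GQ X m)) q (BC.map x (gE X m).toLinearMap g) := by
  induction q using BC.ind with
  | h0 => simp only [map_zero, LinearMap.zero_apply]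
  | h1 r q =>
    simp only [OpCpx.πx, map_smul, LinearMap.smul_apply]
    congr 1
    induction g using BC.ind with
    | h0 => simp only [map_zero]
    | h1 r' g =>
      simp only [map_smul]
      congr 1
      rw [BC.map_bc, K698.kdmul, BC.bil_bc, BC.map_bc, BC.map_bc, BC.bil_bc]
      exact congrArg (bc x) (gE_pi_smul X m q g)
    | h2 a b ha hb => simp only [map_add, ha, hb]
  | h2 a b ha hb => simp only [map_add, LinearMap.add_apply, ha, hb]

/-- the action of the arrows on `F m / F (m + 1)` -/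
def grF {P : PGpd.{u} R} (X : AlgPkg.{u} P) (m : ℕ) : FEq P (GQ X.toOpCpx m) := (grEq X m).congr (gE X.toOpCpx m)

theorem grF_act {P : PGpd.{u} R} (X : AlgPkg.{u} P) (m : ℕ) {R' : Type u} [CommRing R'] {x y : R →+* R'}
    (fx : x.Flat) (fy : y.Flat) {a : P.Hom x y} {ψ : BC x X.K ≃ₗ[R'] BC y X.K} (hψ : ψ ∈ X.L a)
    (v : BC x (K698.FK X.toOpCpx m)) :
    (grF X m).act fx fy a (BC.map x (mkR X.toOpCpx m) v) =
      BC.map y (mkR X.toOpCpx m) (K698.LF fx fy hψ m v) := by
  have e : ∀ (z : R →+* R') (v : BC z (K698.FK X.toOpCpx m)), BC.map z (mkR X.toOpCpx m) v =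
      BC.map z (gE X.toOpCpx m).toLinearMap (K698.prg X.toOpCpx z m v) := fun z v => by
    rw [K698.prg, BC.map_map]
    rfl
  rw [e, e, grF, FEq.congr_act]
  congr 1
  exact K698.gkAct_prg fx fy hψ m v

theorem grF_act_smul {P : PGpd.{u} R} (X : AlgPkg.{u} P) (m : ℕ) {R' : Type u} [CommRing R'] {x y : R →+* R'}
    (fx : x.Flat) (fy : y.Flat) (a : P.Hom x y) (q : BC x X.Q) (q' : BC y X.Q)
    (hq : X.eta.act a (X.πx x q) = X.πx y q') (g : BC x (GQ X.toOpCpx m)) :
    (grF X m).act fx fy a (BC.bil x (smulR R X.Q (GQ X.toOpCpx m)) q g) =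
      BC.bil y (smulR R X.Q (GQ X.toOpCpx m)) q' ((grF X m).act fx fy a g) := by
  obtain ⟨g, rfl⟩ := BC.map_surjective (x := x) (g := (gE X.toOpCpx m).toLinearMap) (gE X.toOpCpx m).surjective g
  rw [← map_gE_kdmul, grF, FEq.congr_act, FEq.congr_act, ← map_gE_kdmul, ← hq]
  congr 1
  exact K698.gkAct_smul fx fy a m (X.πx x q) g

end GrF

end Groth.Agent.ResProp.EF.K104
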