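import Groth.Agent.ResProp.EF.K104.Adm
import Groth.Agent.ResProp.EF.K661.TowerA

/-!
# G5: the linearization of `N ρ`

`OpAct P M`: the rings `AA B` of an operator package act on `B ⊗ M`, naturally in the flat algebra
`B`.  `OpAct.linz` is the linearization of helper661's group functor `NF P R` on `I → M`;
`OpAct.exists_dec` describes its operators: `(ψ ⊗ ρ(h)) (1 + X)`, `ψ` a lift of `h`, `X ∈ Mat (D¹)`.
-/

set_option autoImplicit false

universe u w w' v

open TensorProduct WithConv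

noncomputable section

namespace Groth.Agent.ResProp.EF.K104

open Groth.Agent.ResProp.EF.Grp Groth.Agent.ResProp.EF.K208 Groth.Agent.ResProp.EF.K649
  Groth.Agent.ResProp.EF.K661

variable {k : Type u} [CommRing k]

/-- The rings `AA B` act on `B ⊗ M`. -/
structure OpAct {H : GFun k} {n : ℕ} (P : OpPkg H n) (M : Type w) [AddCommGroup M] [Module k M] where
  /-- the action -/
  κ : ∀ (B : Type u) [CommRing B] [Algebra k B], P.AA B →+* Module.End B (B ⊗[k] M)
  alg : ∀ (B : Type u) [CommRing B] [Algebra k B] [Module.Flat k B] (b : B) (y : B ⊗[k] M),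
    κ B (algebraMap B (P.AA B) b) y = b • y
  nat : ∀ {B C : Type u} [CommRing B] [Algebra k B] [CommRing C] [Algebra k C]
    [Module.Flat k B] [Module.Flat k C] (f : B →ₐ[k] C) (a : P.AA B) (y : B ⊗[k] M),
    f.toLinearMap.rTensor M (κ B a y) = κ C (P.map f a) (f.toLinearMap.rTensor M y)

variable {H : GFun k} {n : ℕ} {P : OpPkg H n} {M : Type w} [AddCommGroup M] [Module k M]
  {I : Type} [Fintype I] [DecidableEq I]

/-- the linearization of `NF P R` -/
def OpAct.linz (A : OpAct P M) (R : MR H I) : Linz (NF P R) I M where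
  app B _ _ x := (x.1.2 : Matrix I I (P.AA B)).map (A.κ B)
  mul B _ _ _ x y := by
    change ((x.1.2 : Matrix I I (P.AA B)) * (y.1.2 : Matrix I I (P.AA B))).map (A.κ B) = _
    rw [Matrix.map_mul]
  one B _ _ _ := by
    change (1 : Matrix I I (P.AA B)).map (A.κ B) = 1
    rw [Matrix.map_one _ (map_zero _) (map_one _)]
  nat {B C} _ _ _ _ _ _ f x i j y := by
    rw [Matrix.map_apply, A.nat]
    rfl

/-- the operators of the linearization: a lift, times `ρ`, times `1 + X`. -/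
theorem OpAct.exists_dec (A : OpAct P M) (R : MR H I) (B : Type u) [CommRing B] [Algebra k B]
    [Module.Flat k B] (x : (NF P R).pt B) :
    ∃ ψ ∈ P.Lift B x.1.1, ∃ X : Matrix I I (P.AA B), (∀ i j, X i j ∈ opD P B 1) ∧
      (A.linz R).app B x =
        Matrix.of (fun i j => ((R.ρ B x.1.1 : (Matrix I I B)ˣ) : Matrix I I B) i j •
          A.κ B (ψ : P.AA B)) * (1 + X.map (A.κ B)) := by
  have h1 := (mem_NSub_flat P R).1 x.2
  obtain ⟨ψ₀, ⟨ψ, hψ, hψ0⟩, hX⟩ := h1
  have hs : (wHom (R.ρ B) (x.1.1, ψ))⁻¹ * wHom (R.ρ B) (x.1.1, ψ₀) ∈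
      ((opFl P B).mat I).onePlus 1 le_rfl := by
    rw [← map_inv, ← map_mul]
    have e : (x.1.1, ψ)⁻¹ * (x.1.1, ψ₀) = ((1 : H.pt B), ψ⁻¹ * ψ₀) :=
      Prod.ext (inv_mul_cancel _) rfl
    rw [e, Fl.mem_onePlus]
    rw [Fl.mem_onePlus] at hψ0
    have e2 : ((wHom (R.ρ B) ((1 : H.pt B), ψ⁻¹ * ψ₀) : (Matrix I I (P.AA B))ˣ) :
        Matrix I I (P.AA B)) - 1 =
        Matrix.scalar I (((ψ⁻¹ * ψ₀ : (P.AA B)ˣ) : P.AA B) - 1) := by
      rw [wHom_apply, map_one, Units.val_one, map_one, mul_one, map_sub, map_one]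
    rw [e2]
    exact scalar_mem hψ0
  have hY := Subgroup.mul_mem _ hs hX
  rw [mul_assoc, mul_inv_cancel_left] at hY
  set Y := (wHom (R.ρ B) (x.1.1, ψ))⁻¹ * x.1.2 with hYd
  rw [Fl.mem_onePlus] at hY
  refine ⟨ψ, hψ, (Y : Matrix I I (P.AA B)) - 1, fun i j => hY i j, ?_⟩
  have hx2 : (x.1.2 : Matrix I I (P.AA B)) =
      ((wHom (R.ρ B) (x.1.1, ψ) : (Matrix I I (P.AA B))ˣ) : Matrix I I (P.AA B)) *
        (1 + ((Y : Matrix I I (P.AA B)) - 1)) := by
    rw [add_sub_cancel, ← Units.val_mul, hYd, mul_inv_cancel_left]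
  change (x.1.2 : Matrix I I (P.AA B)).map (A.κ B) = _
  rw [hx2, Matrix.map_mul, wHom_apply]
  congr 1
  · refine Matrix.ext fun i j => LinearMap.ext fun y => ?_
    rw [Matrix.map_apply, scalar_mul_apply, emb_apply, Matrix.of_apply, map_mul]
    rw [Module.End.mul_apply, A.alg, map_smul]
    rfl
  · rw [Matrix.map_add _ (map_add (A.κ B)), Matrix.map_one _ (map_zero _) (map_one _)]

end Groth.Agent.ResProp.EF.K104
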