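import Groth.Agent.ResProp.EF.K104.Iface

/-!
# G5: proof of Proposition 5 (departures/helper980.md, third version, section 5), abstract form
-/

namespace Groth.Agent.ResProp.EF.K104

universe u w

variable {k : Type u} [CommRing k]

/-- A family given by its value on the universal point. -/
theorem exists_fam {E N : GFun k} {A : Type u} [CommRing A] [Algebra k A] (e : E.pt A)
    (he : ∀ (B : Type u) [CommRing B] [Algebra k B] (x : E.pt B),
      ∃! f : A →ₐ[k] B, E.map f e = x) (y : N.pt A) :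
    ∃ σ : Fam E N, σ.app A e = y ∧ ∀ (B : Type u) [CommRing B] [Algebra k B] (f : A →ₐ[k] B),
      σ.app B (E.map f e) = N.map f y := by
  have key : ∀ (B : Type u) [CommRing B] [Algebra k B] (f : A →ₐ[k] B),
      (he B (E.map f e)).choose = f := by
    intro B _ _ f
    exact ((he B (E.map f e)).choose_spec.2 f rfl).symm
  refine ⟨⟨fun B _ _ x => N.map (he B x).choose y, ?_⟩, ?_, ?_⟩
  · intro B C _ _ _ _ f x
    obtain ⟨g, hg, -⟩ := he B x
    subst hg
    have h1 := key B g
    have h2 := key C (f.comp g)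
    rw [← E.map_comp]
    simp only [h1, h2]
    exact N.map_comp g f y
  · have h := key A (AlgHom.id k A)
    rw [E.map_id] at h
    show N.map (he A e).choose y = y
    rw [h, N.map_id]
  · intro B _ _ f
    show N.map (he B (E.map f e)).choose y = _
    rw [key]

/-- pairs of points come from a flat algebra -/
theorem exists_pair {E : GFun k} (hE : E.FlatRep) (B : Type u) [CommRing B] [Algebra k B]
    (g h : E.pt B) : ∃ (C : Type u) (_ : CommRing C) (_ : Algebra k C) (_ : Module.Flat k C)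
      (f : C →ₐ[k] B) (g₀ h₀ : E.pt C), E.map f g₀ = g ∧ E.map f h₀ = h := by
  obtain ⟨A, _, _, hA, e, he⟩ := hE
  obtain ⟨a, ha, -⟩ := he B g
  obtain ⟨b, hb, -⟩ := he B h
  refine ⟨TensorProduct k A A, inferInstance, inferInstance, inferInstance,
    Algebra.TensorProduct.lift a b (fun _ _ => Commute.all _ _),
    E.map Algebra.TensorProduct.includeLeft e, E.map Algebra.TensorProduct.includeRight e, ?_, ?_⟩
  · rw [← E.map_comp, Algebra.TensorProduct.lift_comp_includeLeft, ha]
  · have h1 : (Algebra.TensorProduct.lift a b (fun _ _ => Commute.all _ _)).comp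
        Algebra.TensorProduct.includeRight = b := by
      ext x
      simp
    rw [← E.map_comp, h1, hb]

variable {H : GFun.{u} k}

/-- The state at level `j`. -/
def Lvl (W : Tower.{u, w} H) (Adm : ∀ E : GFun k, GHom E H → Prop) (j : ℕ) : Prop :=
  ∃ (E : GFun k) (p : GHom E H) (T : W.Tw) (σ : Fam E (W.N T)), Adm E p ∧
    (∀ (B : Type u) [CommRing B] [Algebra k B] (x : E.pt B),
      (W.π T).app B (σ.app B x) = p.app B x) ∧
    ∀ (B : Type u) [CommRing B] [Algebra k B] [Module.Flat k B] (g h : E.pt B),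
      σ.app B g * σ.app B h * (σ.app B (g * h))⁻¹ ∈ W.Fil T j B

theorem lvl_one (W : Tower.{u, w} H) (Adm : ∀ E : GFun k, GHom E H → Prop)
    (hrep : ∀ E p, Adm E p → E.FlatRep) (hH : Adm H (GHom.id H)) : Lvl W Adm 1 := by
  obtain ⟨A, _, _, hA, e, he⟩ := hrep _ _ hH
  obtain ⟨y, hy⟩ := W.π_surj W.one A e
  obtain ⟨σ, h1, h2⟩ := exists_fam (N := W.N W.one) e he y
  have hσ : ∀ (B : Type u) [CommRing B] [Algebra k B] (x : H.pt B),
      (W.π W.one).app B (σ.app B x) = x := by
    intro B _ _ x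
    obtain ⟨f, hf, -⟩ := he B x
    subst hf
    rw [h2, (W.π W.one).nat, hy]
  refine ⟨H, GHom.id H, W.one, σ, hH, hσ, ?_⟩
  intro B _ _ _ g h
  apply W.Fil_one
  simp [hσ]

theorem lvl_succ (W : Tower.{u, w} H) (Adm : ∀ E : GFun k, GHom E H → Prop)
    (hrep : ∀ E p, Adm E p → E.FlatRep) (hK : Kill W Adm) {j : ℕ} (h1 : 1 ≤ j) (hj : j ≤ W.n)
    (hL : Lvl W Adm j) : Lvl W Adm (j + 1) := by
  classical
  obtain ⟨E, p, T, σ, hE, hσ, hD⟩ := hL
  -- the cocycle
  let c : Coc (W.Q T j) E p :=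
    { c := fun B _ _ g h =>
        if hh : σ.app B g * σ.app B h * (σ.app B (g * h))⁻¹ ∈ W.Fil T j B then
          W.q T j B ⟨_, hh⟩ else 0
      nat := by
        intro B C _ _ _ _ _ _ f g h
        have hB := hD B g h
        have hC := hD C (E.map f g) (E.map f h)
        rw [dif_pos hB, dif_pos hC, ← W.q_nat]
        congr 1
        apply Subtype.ext
        simp only [map_mul, map_inv, ← σ.nat]
      cocycle := by
        intro B _ _ _ g h l
        have a1 := hD B h l
        have a2 := hD B g (h * l)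
        have a3 := hD B g h
        have a4 := hD B (g * h) l
        rw [dif_pos a1, dif_pos a2, dif_pos a3, dif_pos a4, ← W.q_mul _ _ _ _ _ h1 hj,
          ← hσ B g, ← W.q_conj _ _ _ _ _ h1 hj, ← W.q_mul _ _ _ _ _ h1 hj]
        congr 1
        apply Subtype.ext
        simp only [Subgroup.coe_mul, mul_assoc g h l]
        group }
  have hc : ∀ (B : Type u) [CommRing B] [Algebra k B] [Module.Flat k B] (g h : E.pt B),
      c.c B g h = W.q T j B ⟨_, hD B g h⟩ := by
    intro B _ _ _ g h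
    exact dif_pos (hD B g h)
  obtain ⟨E', r, T', hE', b, hbn, hb⟩ := hK E p hE T j h1 hj c
  obtain ⟨A, _, _, hA, e, he⟩ := hrep _ _ hE'
  obtain ⟨y, hy⟩ := W.q_surj (W.mul T T') j A h1 hj (b A e)
  obtain ⟨β, -, hβ2⟩ := exists_fam (N := W.N (W.mul T T')) e he (y : (W.N (W.mul T T')).pt A)
  have hβF : ∀ (B : Type u) [CommRing B] [Algebra k B] (x : E'.pt B),
      β.app B x ∈ W.Fil (W.mul T T') j B := by
    intro B _ _ x
    obtain ⟨f, hf, -⟩ := he B x
    subst hf
    rw [hβ2]
    exact W.Fil_map _ _ _ _ y.2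
  have hβq : ∀ (B : Type u) [CommRing B] [Algebra k B] [Module.Flat k B] (x : E'.pt B),
      W.q (W.mul T T') j B ⟨β.app B x, hβF B x⟩ = b B x := by
    intro B _ _ _ x
    obtain ⟨f, hf, -⟩ := he B x
    subst hf
    rw [hbn, ← hy, ← W.q_nat]
    congr 1
    apply Subtype.ext
    exact hβ2 B f
  -- the corrected family
  let σ' : Fam E' (W.N (W.mul T T')) :=
    { app := fun B _ _ x => (β.app B x)⁻¹ * (W.τ T T').app B (σ.app B (r.app B x))
      nat := by
        intro B C _ _ _ _ f x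
        simp only [map_mul, map_inv, β.nat, r.nat, σ.nat, (W.τ T T').nat] }
  refine ⟨E', r.comp p, W.mul T T', σ', hE', ?_, ?_⟩
  · intro B _ _ x
    show (W.π (W.mul T T')).app B ((β.app B x)⁻¹ * _) = p.app B (r.app B x)
    rw [map_mul, map_inv, W.Fil_π _ _ _ _ h1 (hβF B x), W.τ_π, hσ]
    simp
  · intro B _ _ _ g h
    set s := fun x : E'.pt B => (W.τ T T').app B (σ.app B (r.app B x)) with hs
    have e0 : σ'.app B g * σ'.app B h * (σ'.app B (g * h))⁻¹ =
        (β.app B g)⁻¹ * (s g * (β.app B h)⁻¹ * (s g)⁻¹) *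
          (s g * s h * (s (g * h))⁻¹) * β.app B (g * h) := by
      show (β.app B g)⁻¹ * s g * ((β.app B h)⁻¹ * s h) *
        ((β.app B (g * h))⁻¹ * s (g * h))⁻¹ = _
      group
    have m1 : (β.app B g)⁻¹ ∈ W.Fil (W.mul T T') j B := inv_mem (hβF B g)
    have m2 : (β.app B h)⁻¹ ∈ W.Fil (W.mul T T') j B := inv_mem (hβF B h)
    have m3 := W.Fil_conj _ j B (s g) _ m2
    have m4 : (W.τ T T').app B (σ.app B (r.app B g) * σ.app B (r.app B h) *
        (σ.app B (r.app B g * r.app B h))⁻¹) ∈ W.Fil (W.mul T T') j B :=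
      W.τ_Fil _ _ _ _ _ (hD B (r.app B g) (r.app B h))
    have m4' : (W.τ T T').app B (σ.app B (r.app B g) * σ.app B (r.app B h) *
        (σ.app B (r.app B g * r.app B h))⁻¹) = s g * s h * (s (g * h))⁻¹ := by
      simp only [hs, map_mul, map_inv]
    have m5 : β.app B (g * h) ∈ W.Fil (W.mul T T') j B := hβF B (g * h)
    have inv_q : ∀ (x : W.Fil (W.mul T T') j B),
        W.q (W.mul T T') j B x⁻¹ = - W.q (W.mul T T') j B x := by
      intro x
      have h2 := W.q_mul (W.mul T T') j B x x⁻¹ h1 hj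
      have h3 := W.q_mul (W.mul T T') j B 1 1 h1 hj
      rw [mul_one] at h3
      have h4 : W.q (W.mul T T') j B 1 = 0 := by
        simpa using h3
      rw [mul_inv_cancel, h4] at h2
      exact (neg_eq_of_add_eq_zero_right h2.symm).symm
    let x1 : W.Fil (W.mul T T') j B := ⟨_, hβF B g⟩
    let x2 : W.Fil (W.mul T T') j B := ⟨_, hβF B h⟩
    let x3 : W.Fil (W.mul T T') j B := ⟨_, m3⟩
    let x4 : W.Fil (W.mul T T') j B := ⟨_, m4⟩
    let x5 : W.Fil (W.mul T T') j B := ⟨_, m5⟩
    have q3 : W.q (W.mul T T') j B x3 =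
        (W.Q (W.mul T T') j).act B (p.app B (r.app B g)) (- b B h) := by
      have := W.q_conj (W.mul T T') j B (s g) x2⁻¹ h1 hj
      rw [inv_q, hβq] at this
      have e2 : (W.π (W.mul T T')).app B (s g) = p.app B (r.app B g) := by
        rw [hs]
        simp only
        rw [W.τ_π, hσ]
      rw [e2] at this
      exact this
    have q4 : W.q (W.mul T T') j B x4 =
        (W.Q (W.mul T T') j).act B (p.app B (r.app B g)) (b B h) - b B (g * h) + b B g := by
      have h6 := hb B g h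
      rw [hc] at h6
      rw [← h6, ← W.q_τ _ _ _ _ _ h1 hj]
    have q5 : W.q (W.mul T T') j B x5 = b B (g * h) := hβq B (g * h)
    have q1 : W.q (W.mul T T') j B x1 = b B g := hβq B g
    have tot : W.q (W.mul T T') j B (x1⁻¹ * x3 * x4 * x5) = 0 := by
      rw [W.q_mul _ _ _ _ _ h1 hj, W.q_mul _ _ _ _ _ h1 hj, W.q_mul _ _ _ _ _ h1 hj, inv_q,
        q1, q3, q4, q5, map_neg]
      abel
    have fin := W.q_ker _ _ _ _ h1 hj tot
    rw [e0]
    have e3 : ((x1⁻¹ * x3 * x4 * x5 : W.Fil (W.mul T T') j B) : (W.N (W.mul T T')).pt B) =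
        (β.app B g)⁻¹ * (s g * (β.app B h)⁻¹ * (s g)⁻¹) *
          (s g * s h * (s (g * h))⁻¹) * β.app B (g * h) := by
      simp only [Subgroup.coe_mul, Subgroup.coe_inv, x1, x3, x4, x5, m4']
    rw [← e3]
    exact fin

theorem lvl_all (W : Tower.{u, w} H) (Adm : ∀ E : GFun k, GHom E H → Prop)
    (hrep : ∀ E p, Adm E p → E.FlatRep) (hH : Adm H (GHom.id H)) (hK : Kill W Adm) :
    ∀ j, j ≤ W.n → Lvl W Adm (j + 1) := by
  intro j
  induction j with
  | zero => exact fun _ => lvl_one W Adm hrep hH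
  | succ j ih => exact fun hj => lvl_succ W Adm hrep hK (by omega) hj (ih (by omega))

/-- **Proposition 5** (abstract form). -/
theorem prop5 : Prop5.{u, w} k := by
  intro H W Adm hrep hH hK
  obtain ⟨E, p, T, σ, hE, hσ, hD⟩ := lvl_all W Adm hrep hH hK W.n le_rfl
  have hmul : ∀ (B : Type u) [CommRing B] [Algebra k B] (g h : E.pt B),
      σ.app B (g * h) = σ.app B g * σ.app B h := by
    intro B _ _ g h
    obtain ⟨C, _, _, _, f, g₀, h₀, rfl, rfl⟩ := exists_pair (hrep _ _ hE) B g h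
    have h2 := W.Fil_last _ _ _ (hD C g₀ h₀)
    have h3 : σ.app C g₀ * σ.app C h₀ = σ.app C (g₀ * h₀) := mul_inv_eq_one.mp h2
    rw [← map_mul, σ.nat, σ.nat, σ.nat, ← h3, map_mul]
  exact ⟨E, p, T, ⟨fun B _ _ => MonoidHom.mk' (σ.app B) (hmul B), fun f x => σ.nat f x⟩, hE, hσ⟩

end Groth.Agent.ResProp.EF.K104
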