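import Mathlib
import Groth.Prelude.Def_Hoch

/-!
# G5, node (B3): natural families of automorphisms give comodules

`Rep k A M`: for every commutative `k`-algebra `B` (conditions only for flat `B`) and every point
`g : A → B` a `B`-linear endomorphism of `B ⊗ M`, natural and multiplicative.  `Rep.comod` is the
corresponding comodule structure on `M`; `Rep.coact_univ` describes it, `Rep.s_tmul` recovers the
family from it.
-/

set_option autoImplicit false

universe u w w'

open TensorProduct

namespace Groth.Agent.ResProp.EF.K104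

variable {k : Type u} [CommRing k] {A : Type u} [CommRing A] [Bialgebra k A]

/-- product of two points of `Spec A` -/
noncomputable def pmul {B : Type u} [CommRing B] [Algebra k B] (g h : A →ₐ[k] B) : A →ₐ[k] B :=
  (Algebra.TensorProduct.lift g h (fun _ _ => Commute.all _ _)).comp (Bialgebra.comulAlgHom k A)

/-- the unit point of `Spec A` -/
noncomputable def pone (B : Type u) [CommRing B] [Algebra k B] : A →ₐ[k] B :=
  (Algebra.ofId k B).comp (Bialgebra.counitAlgHom k A)

variable (k A) in
/-- A representation of `Spec A` on `M` by functor of points. -/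
structure Rep (M : Type w) [AddCommGroup M] [Module k M] where
  /-- the operators -/
  s : ∀ (B : Type u) [CommRing B] [Algebra k B], (A →ₐ[k] B) → (B ⊗[k] M →ₗ[B] B ⊗[k] M)
  nat : ∀ {B C : Type u} [CommRing B] [Algebra k B] [CommRing C] [Algebra k C]
    [Module.Flat k B] [Module.Flat k C] (f : B →ₐ[k] C) (g : A →ₐ[k] B) (x : B ⊗[k] M),
    f.toLinearMap.rTensor M (s B g x) = s C (f.comp g) (f.toLinearMap.rTensor M x)
  mul : ∀ (B : Type u) [CommRing B] [Algebra k B] [Module.Flat k B] (g h : A →ₐ[k] B)
    (x : B ⊗[k] M), s B (pmul g h) x = s B g (s B h x)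
  one : ∀ (B : Type u) [CommRing B] [Algebra k B] [Module.Flat k B] (x : B ⊗[k] M),
    s B (pone B) x = x

namespace Rep

variable {M : Type w} [AddCommGroup M] [Module k M] (r : Rep k A M)

/-- the coaction, written on the left: `m ↦ u (1 ⊗ m)`, `u` the operator of the universal point -/
noncomputable def co' : M →ₗ[k] A ⊗[k] M :=
  (r.s A (AlgHom.id k A)).restrictScalars k ∘ₗ TensorProduct.mk k A M 1

/-- the coaction -/
noncomputable def co : M →ₗ[k] M ⊗[k] A :=
  (TensorProduct.comm k A M).toLinearMap ∘ₗ r.co'

theorem s_tmul [Module.Flat k A] (B : Type u) [CommRing B] [Algebra k B] [Module.Flat k B]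
    (g : A →ₐ[k] B) (b : B) (m : M) :
    r.s B g (b ⊗ₜ m) = b • g.toLinearMap.rTensor M (r.co' m) := by
  have h := r.nat g (AlgHom.id k A) (1 ⊗ₜ m)
  have h1 : (b ⊗ₜ[k] m : B ⊗[k] M) = b • (1 ⊗ₜ m) := by
    rw [TensorProduct.smul_tmul', smul_eq_mul, mul_one]
  rw [h1, map_smul]
  congr 1
  simp only [LinearMap.rTensor_tmul, AlgHom.toLinearMap_apply, map_one, AlgHom.comp_id] at h
  rw [← h]
  rfl

theorem key [Module.Flat k A] (m : M) :
    (Bialgebra.comulAlgHom k A).toLinearMap.rTensor M (r.co' m) =
      r.s (A ⊗[k] A) Algebra.TensorProduct.includeLeft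
        ((Algebra.TensorProduct.includeRight : A →ₐ[k] A ⊗[k] A).toLinearMap.rTensor M
          (r.co' m)) := by
  have h := r.mul (A ⊗[k] A) Algebra.TensorProduct.includeLeft Algebra.TensorProduct.includeRight
    (1 ⊗ₜ m)
  have e : pmul (k := k) (A := A) (Algebra.TensorProduct.includeLeft : A →ₐ[k] A ⊗[k] A)
      Algebra.TensorProduct.includeRight = Bialgebra.comulAlgHom k A := by
    unfold pmul
    have : (Algebra.TensorProduct.lift (Algebra.TensorProduct.includeLeft : A →ₐ[k] A ⊗[k] A)
        Algebra.TensorProduct.includeRight (fun _ _ => Commute.all _ _)) =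
        AlgHom.id k (A ⊗[k] A) := by
      ext <;> simp
    rw [this, AlgHom.id_comp]
  rw [e] at h
  rw [r.s_tmul, r.s_tmul, one_smul, one_smul] at h
  exact h

/-- The comodule structure. -/
@[reducible] noncomputable def comod [Module.Flat k A] : HopfRep.Comod k A M where
  coact := r.co
  coassoc := by
    have inst : Module.Flat k A := inferInstance
    -- transport of `key`
    have h2 : ∀ x : A ⊗[k] M,
        r.s (A ⊗[k] A) Algebra.TensorProduct.includeLeft
          ((Algebra.TensorProduct.includeRight : A →ₐ[k] A ⊗[k] A).toLinearMap.rTensor M x) =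
        (TensorProduct.comm k M (A ⊗[k] A)).toLinearMap
          ((TensorProduct.assoc k M A A).toLinearMap (r.co.rTensor A
            ((TensorProduct.comm k A M) x))) := by
      intro x
      induction x with
      | zero => simp
      | add x y hx hy => simp only [map_add, hx, hy]
      | tmul a m =>
        simp only [LinearMap.rTensor_tmul, AlgHom.toLinearMap_apply,
          Algebra.TensorProduct.includeRight_apply, TensorProduct.comm_tmul]
        rw [r.s_tmul]
        show _ = (TensorProduct.comm k M (A ⊗[k] A)).toLinearMap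
          ((TensorProduct.assoc k M A A).toLinearMap
            (((TensorProduct.comm k A M).toLinearMap (r.co' m)) ⊗ₜ a))
        generalize r.co' m = y
        induction y with
        | zero => simp
        | add x y hx hy => simp only [map_add, smul_add, hx, hy, TensorProduct.add_tmul]
        | tmul b m =>
          simp [TensorProduct.smul_tmul']
    apply LinearMap.ext
    intro m
    have h3 := r.key m
    rw [h2] at h3
    have h4 : ∀ x : A ⊗[k] M,
        (Bialgebra.comulAlgHom k A).toLinearMap.rTensor M x =
        (TensorProduct.comm k M (A ⊗[k] A)).toLinearMap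
          ((CoalgebraStruct.comul (R := k) (A := A)).lTensor M ((TensorProduct.comm k A M) x)) := by
      intro x
      induction x with
      | zero => simp
      | add x y hx hy => simp only [map_add, hx, hy]
      | tmul a m => simp
    rw [h4] at h3
    exact ((TensorProduct.comm k M (A ⊗[k] A)).injective h3).symm
  counit_comp := by
    apply LinearMap.ext
    intro m
    have h := r.nat (Bialgebra.counitAlgHom k A) (AlgHom.id k A) (1 ⊗ₜ m)
    have e : (Bialgebra.counitAlgHom k A).comp (AlgHom.id k A) = pone k := by
      ext; simp [pone]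
    rw [e, r.one] at h
    have h5 : ∀ x : A ⊗[k] M, (CoalgebraStruct.counit (R := k) (A := A)).lTensor M
        ((TensorProduct.comm k A M) x) =
        TensorProduct.comm k k M ((Bialgebra.counitAlgHom k A).toLinearMap.rTensor M x) := by
      intro x
      induction x with
      | zero => simp
      | add x y hx hy => simp only [map_add, hx, hy]
      | tmul a m => simp
    show (CoalgebraStruct.counit (R := k) (A := A)).lTensor M
        ((TensorProduct.comm k A M) (r.co' m)) = _
    rw [h5]
    have h' : (Bialgebra.counitAlgHom k A).toLinearMap.rTensor M (r.co' m) = 1 ⊗ₜ m := by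
      have := h
      simp only [LinearMap.rTensor_tmul, AlgHom.toLinearMap_apply, map_one] at this
      exact this
    rw [h']
    simp

/-- A linear map which intertwines the operators of the universal point is a morphism of
comodules. -/
theorem isComodHom [Module.Flat k A] {N : Type w'} [AddCommGroup N] [Module k N] (r' : Rep k A N)
    (f : M →ₗ[k] N) (hf : ∀ m : M, f.lTensor A (r.s A (AlgHom.id k A) (1 ⊗ₜ m)) =
      r'.s A (AlgHom.id k A) (1 ⊗ₜ f m)) :
    @Hoch.IsComodHom k _ A _ _ _ M _ _ r.comod N _ _ r'.comod f := by
  apply LinearMap.ext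
  intro m
  show (TensorProduct.comm k A N) (r'.s A (AlgHom.id k A) (1 ⊗ₜ f m)) =
    f.rTensor A ((TensorProduct.comm k A M) (r.s A (AlgHom.id k A) (1 ⊗ₜ m)))
  rw [← hf]
  generalize r.s A (AlgHom.id k A) (1 ⊗ₜ m) = x
  induction x with
  | zero => simp
  | add x y hx hy => simp only [map_add, hx, hy]
  | tmul a m => simp

/-- stable submodules are subcomodules -/
theorem isSubcomod [Module.Flat k A] (W : Submodule k M)
    (hW : ∀ m ∈ W, r.s A (AlgHom.id k A) (1 ⊗ₜ m) ∈ LinearMap.range (W.subtype.lTensor A)) :
    @HopfRep.IsSubcomod k A _ _ _ _ M _ _ r.comod W := by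
  intro m hm
  obtain ⟨y, hy⟩ := hW m hm
  refine ⟨(TensorProduct.comm k A W) y, ?_⟩
  show _ = (TensorProduct.comm k A M) (r.s A (AlgHom.id k A) (1 ⊗ₜ m))
  rw [← hy]
  generalize y = x
  induction x with
  | zero => simp
  | add x y hx hy => simp only [map_add, hx, hy]
  | tmul a m => simp

/-- linearity over a ring acting on `M` -/
theorem co_smul {R : Type*} [CommRing R] [Algebra k R] [Module R M] [IsScalarTower k R M]
    (hR : ∀ (a : R) (m : M), r.s A (AlgHom.id k A) (1 ⊗ₜ (a • m)) =
      (Module.toModuleEnd k (S := R) M a).lTensor A (r.s A (AlgHom.id k A) (1 ⊗ₜ m)))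
    (a : R) (m : M) : r.co (a • m) = (Module.toModuleEnd k (S := R) M a).rTensor A (r.co m) := by
  show (TensorProduct.comm k A M) (r.s A (AlgHom.id k A) (1 ⊗ₜ (a • m))) =
    (Module.toModuleEnd k (S := R) M a).rTensor A
      ((TensorProduct.comm k A M) (r.s A (AlgHom.id k A) (1 ⊗ₜ m)))
  rw [hR]
  generalize r.s A (AlgHom.id k A) (1 ⊗ₜ m) = x
  induction x with
  | zero => simp
  | add x y hx hy => simp only [map_add, hx, hy]
  | tmul a m => simp

end Rep

end Groth.Agent.ResProp.EF.K104
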